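import Cfsg.Agent.Lib.Helper92.Sz8.K8
import Cfsg.Agent.Lib.Helper6.SzEmbed
import Cfsg.Agent.Lib.Helper6.SzBridge
import Cfsg.Agent.Lib.Helper89.CosetCert

/-!
# Sz(8): packed 4 × 4 matrices over `K8`, the concrete Suzuki group and its two generators

A matrix over `K8` is packed into one natural number, entry `(i, j)` in the three bits at position
`3 * (4 * i + j)`.  `mulP` multiplies packed matrices, `evP` evaluates words (letters `2i ↦` generator
`i`, `2i+1 ↦` its inverse, as in `Helper89.CosetCert`).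
-/

set_option autoImplicit false

namespace Cfsg.Agent.Lib.Helper92.Sz8

open Cfsg.Agent.Lib.Helper6.Sz Cfsg.Agent.Lib.Helper89.CosetCert

/-- entry `(i, j)` of a packed matrix (a code `< 8`) -/
def ent (P i j : ℕ) : ℕ := Nat.mod (Nat.shiftRight P (Nat.mul 3 (Nat.add (Nat.mul 4 i) j))) 8

/-- the matrix over `K8` described by a packed number -/
def semK (P : ℕ) : Matrix (Fin 4) (Fin 4) K8 := Matrix.of fun i j => K8.ofNat (ent P i.1 j.1)

/-- entry `(i, j)` of the product of two packed matrices -/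
def prodEnt (P Q i j : ℕ) : ℕ :=
  Nat.xor (Nat.xor (mul8 (ent P i 0) (ent Q 0 j)) (mul8 (ent P i 1) (ent Q 1 j)))
    (Nat.xor (mul8 (ent P i 2) (ent Q 2 j)) (mul8 (ent P i 3) (ent Q 3 j)))

/-- product of packed matrices -/
def mulP (P Q : ℕ) : ℕ :=
  Nat.add (Nat.add (Nat.add (Nat.add (Nat.add (Nat.add (Nat.add (Nat.add (Nat.add (Nat.add (Nat.add (Nat.add (Nat.add (Nat.add (Nat.add ((Nat.shiftLeft (prodEnt P Q 0 0) 0)) (Nat.shiftLeft (prodEnt P Q 0 1) 3)) (Nat.shiftLeft (prodEnt P Q 0 2) 6)) (Nat.shiftLeft (prodEnt P Q 0 3) 9)) (Nat.shiftLeft (prodEnt P Q 1 0) 12)) (Nat.shiftLeft (prodEnt P Q 1 1) 15)) (Nat.shiftLeft (prodEnt P Q 1 2) 18)) (Nat.shiftLeft (prodEnt P Q 1 3) 21)) (Nat.shiftLeft (prodEnt P Q 2 0) 24)) (Nat.shiftLeft (prodEnt P Q 2 1) 27)) (Nat.shiftLeft (prodEnt P Q 2 2) 30)) (Nat.shiftLeft (prodEnt P Q 2 3) 33)) (Nat.shiftLeft (prodEnt P Q 3 0) 36)) (Nat.shiftLeft (prodEnt P Q 3 1) 39)) (Nat.shiftLeft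 (prodEnt P Q 3 2) 42)) (Nat.shiftLeft (prodEnt P Q 3 3) 45)

/-- the packed identity matrix -/
def oneP : ℕ := 35185445863425

/-- the packed letters: `x`, `x⁻¹`, `y`, `y⁻¹` where `x = T(3,1) W`, `y = T(5,5) W` -/
def LP (l : ℕ) : ℕ :=
  match l with
  | 0 => 68904522460
  | 1 => 146886948553216
  | 2 => 68937962318
  | 3 => 235925919760896
  | _ => oneP

/-- evaluation of a word on packed matrices -/
def evP (w : List ℕ) : ℕ := w.foldl (fun acc l => mulP acc (LP l)) oneP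

/-- the Tits endomorphism `x ↦ x ^ 4` of `K8` -/
noncomputable def sK : K8 →+* K8 := sig K8 1

theorem hsK (x : K8) : sK (sK x) = x ^ 2 := sig_sig (m := 1) K8.card x

theorem hntK : ∃ y : K8, sK y ≠ y ^ 2 := sig_nt (m := 1) le_rfl K8.card

/-- the concrete Suzuki group `Sz(8)` -/
abbrev GK : Type := ↥(G sK)

/-- the two generators `x = T(3,1) W`, `y = T(5,5) W` of `GK` (and `1` for indices `≥ 2`) -/
noncomputable def gK (i : ℕ) : GK :=
  match i with
  | 0 => Tg sK hsK (K8.ofNat 3) (K8.ofNat 1) * Wg sK hsK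
  | 1 => Tg sK hsK (K8.ofNat 5) (K8.ofNat 5) * Wg sK hsK
  | _ => 1

end Cfsg.Agent.Lib.Helper92.Sz8
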