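import Cfsg.Agent.Lib.Helper89.SafePres

/-! # The conjugation relators of `2^2.Sz(8)` on the generators `x, y` -/

set_option autoImplicit false

namespace Cfsg.Agent.Lib.Helper92.Sz8

open Cfsg.Agent.Lib.Helper89.CosetCert Cfsg.Agent.Lib.Helper89.SafePres

/-- all conjugation relators -/
def srelsAll : List SRel := [
  ⟨[3, 0, 0, 3, 0, 0], 1, 0, 2, true⟩,
  ⟨[0, 3, 1, 2, 0, 2, 0], 1, 1, 1, true⟩,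
  ⟨[0, 2, 2, 0, 3, 1, 2, 0], 1, 1, 1, true⟩,
  ⟨[1, 2, 0, 2, 0, 2, 2, 0], 1, 1, 1, true⟩,
  ⟨[1, 3, 0, 2, 2, 1, 3, 0], 1, 1, 1, false⟩,
  ⟨[3, 0, 3, 0, 3, 0, 3], 0, 0, 1, false⟩,
  ⟨[3, 0, 2, 1, 2, 1, 2, 0], 1, 0, 2, true⟩,
  ⟨[2, 0, 2, 0, 3, 3, 3, 3, 0, 3], 0, 0, 1, true⟩]

end Cfsg.Agent.Lib.Helper92.Sz8
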