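import Cfsg.Agent.Lib.Helper92.Sz8.GenData
import Cfsg.Agent.Lib.Helper92.Sz8.Rels
import Cfsg.Agent.Lib.Helper80.Sz8PK
import Cfsg.Agent.Lib.Helper68.Sz8BRmain
import Cfsg.Agent.Lib.Helper99.Sz8GENK
import Cfsg.Agent.Lib.Helper43.Sz8TRF

/-! # Facts about the concrete group `GK = Sz(8)`: relators, generation, element orders -/

set_option autoImplicit false
set_option maxRecDepth 1000000
set_option maxHeartbeats 0

namespace Cfsg.Agent.Lib.Helper92.Sz8

open Cfsg Cfsg.Agent.Lib.Helper6.Sz Cfsg.Agent.Lib.Helper89.CosetCert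
open Cfsg.Agent.Lib.Helper89.SafePres

/-- the words of the two central involutions of the cover (trivial in `Sz(8)`) -/
def zw1 : Word := [0, 2, 0, 2, 0, 2, 0, 2, 0, 2, 0, 2, 0, 2]
def zw2 : Word := [0, 0, 2, 0, 0, 2, 0, 0, 2, 0, 0, 2, 0, 0, 2]

/-- words of orders `7` and `5` -/
def w7 : Word := [0, 2]
def w5 : Word := [0, 0, 2]

/-- the words that have to be trivial in `Sz(8)` -/
def allK : List Word :=
  srelsAll.map SRel.word ++ [zw1, zw2, powWord 13 0, powWord 13 1]

theorem validK : allK.all (fun w => w.all (fun l => decide (l < 4)) && (evP w == oneP)) = true := by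
  decide +kernel

theorem evK_eq_one {w : Word} (hw : w ∈ allK) : ev gK w = 1 := by
  have h := List.all_eq_true.mp validK w hw
  rw [Bool.and_eq_true, List.all_eq_true] at h
  have h1 : ∀ l ∈ w, l < 4 := fun l hl => of_decide_eq_true (h.1 l hl)
  have h2 : evP w = oneP := by simpa using h.2
  apply Subtype.ext
  apply Subtype.ext
  rw [coe_ev_gK w h1, h2, semK_oneP]
  rfl

theorem hvalidK : ∀ r ∈ srelsAll, ev gK r.word = 1 := fun r hr =>
  evK_eq_one (List.mem_append_left _ (List.mem_map_of_mem hr))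

theorem zw1_K : ev gK zw1 = 1 := evK_eq_one (by decide)
theorem zw2_K : ev gK zw2 = 1 := evK_eq_one (by decide)

theorem gK_pow (i : ℕ) : gK i ^ 13 = 1 := by
  match i with
  | 0 =>
    have h := evK_eq_one (w := powWord 13 0) (by decide)
    rwa [ev_powWord] at h
  | 1 =>
    have h := evK_eq_one (w := powWord 13 1) (by decide)
    rwa [ev_powWord] at h
  | (n + 2) => exact one_pow 13

theorem closure_gK : Subgroup.closure {y : GK | ∃ i < 2, y = gK i} = ⊤ :=
  closure_gK_core coe_ev_gK wT hwT wD hwD wW hwW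

theorem evK_ne_one {w : Word} (hw : ∀ l ∈ w, l < 4) (h : semK (evP w) ≠ 1) : ev gK w ≠ 1 := by
  intro h1
  apply h
  rw [← coe_ev_gK w hw, h1]
  rfl

theorem ev_pow_word (w : Word) (n : ℕ) : ev gK (List.flatten (List.replicate n w)) = ev gK w ^ n := by
  induction n with
  | zero => simp
  | succ n ih =>
    rw [List.replicate_succ, List.flatten_cons, ev_append, ih, pow_succ']

theorem orderOf_a13 : orderOf (gK 0) = 13 := by
  haveI : Fact (Nat.Prime 13) := ⟨by norm_num⟩
  have h := evK_ne_one (w := [0]) (by decide) (by decide +kernel)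
  have e : ev gK [0] = gK 0 := by
    rw [ev_cons, ev_nil, mul_one, show (0 : ℕ) = 2 * 0 from rfl, lv_two_mul]
  rw [e] at h
  exact orderOf_eq_prime (gK_pow 0) h

theorem orderOf_a7 : orderOf (ev gK w7) = 7 := by
  haveI : Fact (Nat.Prime 7) := ⟨by norm_num⟩
  apply orderOf_eq_prime
  · rw [← ev_pow_word]
    exact zw1_K
  · exact evK_ne_one (by decide) (by decide +kernel)

theorem orderOf_a5 : orderOf (ev gK w5) = 5 := by
  haveI : Fact (Nat.Prime 5) := ⟨by norm_num⟩
  apply orderOf_eq_prime
  · rw [← ev_pow_word]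
    exact zw2_K
  · exact evK_ne_one (by decide) (by decide +kernel)

end Cfsg.Agent.Lib.Helper92.Sz8
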