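import Cfsg.Agent.Lib.Helper92.Sz8.Defs

/-! # Words in the generators `x, y` of `Sz(8)` for the elements `T a b`, `D t`, `W` -/

set_option autoImplicit false
set_option maxRecDepth 1000000

namespace Cfsg.Agent.Lib.Helper92.Sz8

open Cfsg.Agent.Lib.Helper6.Sz

/-- words for `T a b`, entry `8 a + b` -/
def wTtab : List (List ℕ) := [
  [],
  [0, 0, 0, 3, 1, 3, 3, 3, 0, 3, 1],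
  [0, 0, 0, 3, 1, 1, 2, 2, 1, 1, 2],
  [1, 1, 2, 1, 1, 2, 2, 0, 0, 2],
  [0, 2, 2, 0, 0, 3, 3, 0, 0, 2],
  [0, 3, 0, 3],
  [1, 3, 3, 0, 2, 0, 0, 3, 1, 3],
  [0, 0, 3, 3, 1, 1, 3, 3, 3, 0, 2],
  [3, 3, 1, 1, 2, 2, 0, 3, 0, 2],
  [3, 1, 2, 1, 3, 3, 0, 0, 2, 2],
  [1, 1, 3, 0, 3, 1, 2, 1, 3, 1],
  [0, 2, 0, 0, 0, 2, 1, 3, 3, 0],
  [0, 2, 1, 2, 2, 0, 3, 3, 0, 0],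
  [1, 1, 1, 2, 0, 0, 3, 1, 1, 3],
  [1, 1, 2, 0, 3, 0, 2, 1, 1, 2],
  [3, 0, 0, 3, 1, 2, 1, 3, 0, 0],
  [3, 3, 0, 0, 3, 3, 1, 1],
  [0, 2, 2, 2, 1, 1, 1, 3, 0, 3],
  [2, 0, 0, 0, 3, 3, 3, 3],
  [0, 0, 0, 0, 3, 3, 3, 1],
  [0, 0, 2, 0, 0, 0, 0, 2],
  [2, 2, 2, 2, 1, 1, 1, 3],
  [0, 0, 0, 0, 3, 3, 3, 3, 0, 3],
  [0, 0, 2, 2, 1, 1, 2, 2],
  [3, 3, 1, 2, 1, 2, 2, 0],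
  [2, 0, 3, 0, 3, 1, 3, 1, 2, 1, 1],
  [1, 3, 1, 2, 1, 2, 2, 2],
  [0, 0, 2, 2, 0, 2, 1, 1, 1, 1, 2],
  [1, 1, 2, 1, 2, 0, 2, 1, 2],
  [2, 0, 3, 0, 2, 0, 0, 3, 0, 3, 1],
  [3, 0, 3, 1, 1, 2, 1, 2, 0],
  [0, 0, 3, 0, 3, 1, 3, 1, 2, 1, 3],
  [0, 2, 2, 2, 1, 1, 1, 3],
  [0, 3, 0, 0, 2, 0, 0, 0, 0, 2],
  [0, 0, 0, 0, 3, 3, 3, 1, 2, 1],
  [2, 0, 0, 0, 3, 3, 3, 1],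
  [2, 0, 2, 0, 0, 0, 0, 2],
  [3, 0, 0, 2, 2, 1, 3, 1, 1],
  [0, 0, 0, 2, 2, 1, 3, 1, 2],
  [0, 0, 0, 0, 3, 3, 3, 3],
  [1, 3, 1, 2, 1, 2, 2, 2, 0, 3],
  [0, 2, 1, 3, 3, 3, 0, 2, 0, 2],
  [1, 2, 0, 0, 3, 3, 1, 1, 3, 3],
  [0, 3, 1, 3, 1, 2, 1, 2, 2, 2],
  [2, 1, 3, 3, 1, 2, 1, 2, 2, 0],
  [0, 0, 2, 1, 1, 3, 3, 0, 2, 2],
  [2, 1, 1, 3, 1, 2, 1, 2, 2, 2],
  [3, 3, 1, 2, 1, 2, 2, 0, 2, 1],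
  [3, 1, 1, 1, 3, 3, 1, 1, 2],
  [3, 1, 3, 3, 0, 2, 0, 0, 3, 0],
  [3, 1, 1, 2, 2, 1, 1, 3, 3, 3],
  [2, 1],
  [1, 2, 1, 1, 3, 1, 2, 2, 0, 2],
  [3, 0, 0, 2, 2, 0, 0, 0, 2],
  [0, 3],
  [2, 2, 2, 0, 0, 3, 3, 0, 0, 2],
  [1, 1, 1, 2, 0, 0, 3, 1, 1, 1],
  [1, 1, 3, 0, 0, 0, 0, 2, 1, 2],
  [1, 1, 3, 0, 3, 1, 2, 1, 3, 3],
  [2, 2, 1, 2, 2, 0, 3, 3, 0, 0],
  [2, 2, 0, 0, 0, 2, 1, 3, 3, 0],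
  [1, 1, 2, 2, 1, 3, 3, 0, 3, 3],
  [0, 0, 0, 2, 1, 1, 3, 0, 0, 0],
  [3, 0, 3, 1, 1, 1, 1, 2, 0, 0]]

/-- words for `D t`, entry `t` -/
def wDtab : List (List ℕ) := [
  [],
  [],
  [0, 3, 3, 3, 3, 0, 0, 3, 1, 3],
  [2, 2, 0, 0, 2, 2, 2, 2, 2, 2],
  [0, 2, 2, 1, 2, 2, 1],
  [2, 0, 2, 1, 1, 2, 2, 2, 2, 1],
  [3, 3, 3, 3, 3, 3, 1, 1, 3, 3],
  [0, 3, 3, 0, 3, 3, 1]]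

/-- the word for `T a b` -/
def wT (a b : K8) : List ℕ := wTtab.getD (8 * a.1 + b.1) []

/-- the word for `D t` -/
def wD (t : K8) : List ℕ := wDtab.getD t.1 []

/-- the word for `W` -/
def wW : List ℕ := [0, 2, 1, 3, 3, 3, 0, 2, 0, 2, 2]

theorem hwT : ∀ a b : K8, (∀ l ∈ wT a b, l < 4) ∧ semK (evP (wT a b)) = Tm sK a b := by
  decide +kernel

theorem hwD : ∀ t : K8, t ≠ 0 → (∀ l ∈ wD t, l < 4) ∧ semK (evP (wD t)) = Dm sK t := by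
  decide +kernel

theorem hwW : (∀ l ∈ wW, l < 4) ∧ semK (evP wW) = Wm := by
  decide +kernel

end Cfsg.Agent.Lib.Helper92.Sz8
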