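import Mathlib

/-!
# A concrete computable field with 8 elements

`K8 = 𝔽₂[a]/(a³ + a + 1)`; the element with code `n < 8` is `c₀ + c₁ a + c₂ a²` where `cᵢ` is bit `i`
of `n`.  Addition is `xor`, multiplication and inversion are table lookups in a packed number, so that
the kernel evaluates everything with its accelerated `Nat` operations.
-/

set_option autoImplicit false

namespace Cfsg.Agent.Lib.Helper92.Sz8

/-- multiplication of codes: entry `8 x + y` of a packed table (3 bits each) -/
def mul8 (x y : ℕ) : ℕ :=
  Nat.mod (Nat.shiftRight 2821848294356612419217921029917578219971947684264937521152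
    (Nat.mul 3 (Nat.add (Nat.mul 8 x) y))) 8

/-- inversion of codes (`0 ↦ 0`) -/
def inv8 (x : ℕ) : ℕ := Nat.mod (Nat.shiftRight 9272648 (Nat.mul 3 x)) 8

/-- the field with 8 elements -/
def K8 : Type := Fin 8

namespace K8

instance : DecidableEq K8 := inferInstanceAs (DecidableEq (Fin 8))
instance : Fintype K8 := inferInstanceAs (Fintype (Fin 8))

/-- the element with a given code -/
def ofNat (n : ℕ) : K8 := ⟨Nat.mod n 8, Nat.mod_lt _ (by decide)⟩

/-- the code of an element -/
def code (a : K8) : ℕ := a.1

instance : Zero K8 := ⟨ofNat 0⟩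
instance : One K8 := ⟨ofNat 1⟩
instance : Add K8 := ⟨fun a b => ofNat (Nat.xor a.1 b.1)⟩
instance : Neg K8 := ⟨fun a => a⟩
instance : Mul K8 := ⟨fun a b => ofNat (mul8 a.1 b.1)⟩
instance : Inv K8 := ⟨fun a => ofNat (inv8 a.1)⟩

theorem add_def (a b : K8) : a + b = ofNat (Nat.xor a.1 b.1) := rfl
theorem mul_def (a b : K8) : a * b = ofNat (mul8 a.1 b.1) := rfl
theorem zero_def : (0 : K8) = ofNat 0 := rfl
theorem one_def : (1 : K8) = ofNat 1 := rfl

instance : CommRing K8 where
  add := (· + ·)
  add_assoc := by decide
  zero := 0
  zero_add := by decide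
  add_zero := by decide
  nsmul := nsmulRec
  add_comm := by decide
  mul := (· * ·)
  left_distrib := by decide
  right_distrib := by decide
  zero_mul := by decide
  mul_zero := by decide
  mul_assoc := by decide
  one := 1
  one_mul := by decide
  mul_one := by decide
  neg := fun a => a
  zsmul := zsmulRec
  neg_add_cancel := by decide
  mul_comm := by decide

instance : Field K8 where
  inv := fun a => a⁻¹
  exists_pair_ne := ⟨0, 1, by decide⟩
  mul_inv_cancel := by decide
  inv_zero := by decide
  nnqsmul := _
  nnqsmul_def := fun _ _ => rfl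
  qsmul := _
  qsmul_def := fun _ _ => rfl

theorem card : Fintype.card K8 = 8 := by decide

theorem two_eq_zero : (2 : K8) = 0 := by decide

instance : CharP K8 2 := CharTwo.of_one_ne_zero_of_two_eq_zero (by decide) two_eq_zero

end K8

end Cfsg.Agent.Lib.Helper92.Sz8
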