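import Cfsg.Agent.Lib.Helper89.SafePres

set_option autoImplicit false
set_option maxRecDepth 1000000
set_option maxHeartbeats 0
set_option Elab.async false

namespace Cfsg.Agent.Lib.Helper92.Sz8.L1

open Cfsg.Agent.Lib.Helper89.CosetCert Cfsg.Agent.Lib.Helper89.SafePres

def factB : ℕ := 0xb01000c000a00000c000901000b000c00000b000c01000a000800000a0007010009000b000009000a01000800060000080005010007000900000700080100060004000006000301000500070000050006010004000200000400010100030005000003000401000200000000020000010001000300000100020100000001000000000c00000b000c01000a000b000009000a010008000900000700080100060007000005000601000400050000030004010002000300000100020100000001000000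

def finB : ℕ := 0xb000a0009000c000c00080007000b000a00060005000900080004000300070006000200010005000400000000000300020001

def pw : List (ℕ × ℕ) := [(13, 0)]

def srels : List SRel := [].flatten

def rels : List Word := [
  [0, 0, 0, 0, 0, 0, 0, 0, 0, 0, 0, 0, 0]]

def steps0 : List ℕ := [
  180925719181789999937615717100248137320130179539942080064587031869643408015363,
  468374430503927808,
  504403364961845249,
  540432299419762688,
  576460752841342977,
  612489687299260416,
  648518827915608065,
  684547762373525504,
  720576215795105793,
  756605150253023232,
  792634290869370881,
  828663225327288320,
  864691678748868609,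
  900720613206786048,
  936749753823133697,
  972778688281051136,
  1008807141702631425,
  1044836076160548864,
  1080865216776896513,
  1116894151234813952,
  1152922604656394241,
  1188951539114311680,
  1224980679730659329,
  1261009614188576768,
  1297038067610157057,
  1333067002068074496,
  1369095936525991937]

def steps : List ℕ := [steps0].flatten

def roots : List ℕ := [0, 1, 2, 3, 4, 5, 6, 7, 8, 9, 10, 11, 12]

def cert : Cert := ⟨1, 0, 13, factBig factB, rels, steps, 13, roots, numBig finB⟩

end Cfsg.Agent.Lib.Helper92.Sz8.L1
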