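import Cfsg.Agent.Lib.Helper92.Sz8.L2Data

set_option autoImplicit false
set_option maxRecDepth 1000000
set_option maxHeartbeats 0
set_option Elab.async false

namespace Cfsg.Agent.Lib.Helper92.Sz8.L2

open Cfsg.Agent.Lib.Helper89.CosetCert Cfsg.Agent.Lib.Helper89.SafePres

theorem chk123 : cert.checkSteps (cert.N - 1 + cert.j0 + steps0.length + steps1.length + steps2.length + steps3.length + steps4.length + steps5.length + steps6.length + steps7.length + steps8.length + steps9.length + steps10.length + steps11.length + steps12.length + steps13.length + steps14.length + steps15.length + steps16.length + steps17.length + steps18.length + steps19.length + steps20.length + steps21.length + steps22.length + steps23.length + steps24.length + steps25.length + steps26.length + steps27.length + steps28.length + steps29.length + steps30.length + steps31.length + steps32.length + steps33.length + steps34.length + steps35.length + steps36.length + steps37.length + steps38.length + steps39.length + steps40.length + steps41.length + steps42.length + steps43.length + steps44.length + steps45.length + steps46.length + steps47.length + steps48.length + steps49.length + steps50.length + steps51.length + steps52.length + steps53.length + steps54.length + steps55.length + steps56.length + steps57.length + steps58.length + steps59.length + steps60.length + steps61.length + steps62.length + steps63.length + steps64.length + steps65.length + steps66.length + steps67.length + steps68.length + steps69.length + steps70.length + steps71.length + steps72.length + steps73.length + steps74.length + steps75.length + steps76.length + steps77.length + steps78.length + steps79.length + steps80.length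 + steps81.length + steps82.length + steps83.length + steps84.length + steps85.length + steps86.length + steps87.length + steps88.length + steps89.length + steps90.length + steps91.length + steps92.length + steps93.length + steps94.length + steps95.length + steps96.length + steps97.length + steps98.length + steps99.length + steps100.length + steps101.length + steps102.length + steps103.length + steps104.length + steps105.length + steps106.length + steps107.length + steps108.length + steps109.length + steps110.length + steps111.length + steps112.length + steps113.length + steps114.length + steps115.length + steps116.length + steps117.length + steps118.length + steps119.length + steps120.length + steps121.length + steps122.length) steps123 = true := by decide +kernel

theorem chk124 : cert.checkSteps (cert.N - 1 + cert.j0 + steps0.length + steps1.length + steps2.length + steps3.length + steps4.length + steps5.length + steps6.length + steps7.length + steps8.length + steps9.length + steps10.length + steps11.length + steps12.length + steps13.length + steps14.length + steps15.length + steps16.length + steps17.length + steps18.length + steps19.length + steps20.length + steps21.length + steps22.length + steps23.length + steps24.length + steps25.length + steps26.length + steps27.length + steps28.length + steps29.length + steps30.length + steps31.length + steps32.length + steps33.length + steps34.length + steps35.length + steps36.length + steps37.length + steps38.length + steps39.length + steps40.length + steps41.length + steps42.length + steps43.length + steps44.length + steps45.length + steps46.length + steps47.length + steps48.length + steps49.length + steps50.length + steps51.length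 + steps52.length + steps53.length + steps54.length + steps55.length + steps56.length + steps57.length + steps58.length + steps59.length + steps60.length + steps61.length + steps62.length + steps63.length + steps64.length + steps65.length + steps66.length + steps67.length + steps68.length + steps69.length + steps70.length + steps71.length + steps72.length + steps73.length + steps74.length + steps75.length + steps76.length + steps77.length + steps78.length + steps79.length + steps80.length + steps81.length + steps82.length + steps83.length + steps84.length + steps85.length + steps86.length + steps87.length + steps88.length + steps89.length + steps90.length + steps91.length + steps92.length + steps93.length + steps94.length + steps95.length + steps96.length + steps97.length + steps98.length + steps99.length + steps100.length + steps101.length + steps102.length + steps103.length + steps104.length + steps105.length + steps106.length + steps107.length + steps108.length + steps109.length + steps110.length + steps111.length + steps112.length + steps113.length + steps114.length + steps115.length + steps116.length + steps117.length + steps118.length + steps119.length + steps120.length + steps121.length + steps122.length + steps123.length) steps124 = true := by decide +kernel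

theorem chk125 : cert.checkSteps (cert.N - 1 + cert.j0 + steps0.length + steps1.length + steps2.length + steps3.length + steps4.length + steps5.length + steps6.length + steps7.length + steps8.length + steps9.length + steps10.length + steps11.length + steps12.length + steps13.length + steps14.length + steps15.length + steps16.length + steps17.length + steps18.length + steps19.length + steps20.length + steps21.length + steps22.length + steps23.length + steps24.length + steps25.length + steps26.length + steps27.length + steps28.length + steps29.length + steps30.length + steps31.length + steps32.length + steps33.length + steps34.length + steps35.length + steps36.length + steps37.length + steps38.length + steps39.length + steps40.length + steps41.length + steps42.length + steps43.length + steps44.length + steps45.length + steps46.length + steps47.length + steps48.length + steps49.length + steps50.length + steps51.length + steps52.length + steps53.length + steps54.length + steps55.length + steps56.length + steps57.length + steps58.length + steps59.length + steps60.length + steps61.length + steps62.length + steps63.length + steps64.length + steps65.length + steps66.length + steps67.length + steps68.length + steps69.length + steps70.length + steps71.length + steps72.length + steps73.length + steps74.length + steps75.length + steps76.length + steps77.length + steps78.length + steps79.length + steps80.length + steps81.length + steps82.length + steps83.length + steps84.length + steps85.length + steps86.length + steps87.length + steps88.length + steps89.length + steps90.length + steps91.length + steps92.length + steps93.length + steps94.length + steps95.length + steps96.length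 + steps97.length + steps98.length + steps99.length + steps100.length + steps101.length + steps102.length + steps103.length + steps104.length + steps105.length + steps106.length + steps107.length + steps108.length + steps109.length + steps110.length + steps111.length + steps112.length + steps113.length + steps114.length + steps115.length + steps116.length + steps117.length + steps118.length + steps119.length + steps120.length + steps121.length + steps122.length + steps123.length + steps124.length) steps125 = true := by decide +kernel

theorem chk126 : cert.checkSteps (cert.N - 1 + cert.j0 + steps0.length + steps1.length + steps2.length + steps3.length + steps4.length + steps5.length + steps6.length + steps7.length + steps8.length + steps9.length + steps10.length + steps11.length + steps12.length + steps13.length + steps14.length + steps15.length + steps16.length + steps17.length + steps18.length + steps19.length + steps20.length + steps21.length + steps22.length + steps23.length + steps24.length + steps25.length + steps26.length + steps27.length + steps28.length + steps29.length + steps30.length + steps31.length + steps32.length + steps33.length + steps34.length + steps35.length + steps36.length + steps37.length + steps38.length + steps39.length + steps40.length + steps41.length + steps42.length + steps43.length + steps44.length + steps45.length + steps46.length + steps47.length + steps48.length + steps49.length + steps50.length + steps51.length + steps52.length + steps53.length + steps54.length + steps55.length + steps56.length + steps57.length + steps58.length + steps59.length + steps60.length + steps61.length + steps62.length + steps63.length + steps64.length +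 steps65.length + steps66.length + steps67.length + steps68.length + steps69.length + steps70.length + steps71.length + steps72.length + steps73.length + steps74.length + steps75.length + steps76.length + steps77.length + steps78.length + steps79.length + steps80.length + steps81.length + steps82.length + steps83.length + steps84.length + steps85.length + steps86.length + steps87.length + steps88.length + steps89.length + steps90.length + steps91.length + steps92.length + steps93.length + steps94.length + steps95.length + steps96.length + steps97.length + steps98.length + steps99.length + steps100.length + steps101.length + steps102.length + steps103.length + steps104.length + steps105.length + steps106.length + steps107.length + steps108.length + steps109.length + steps110.length + steps111.length + steps112.length + steps113.length + steps114.length + steps115.length + steps116.length + steps117.length + steps118.length + steps119.length + steps120.length + steps121.length + steps122.length + steps123.length + steps124.length + steps125.length) steps126 = true := by decide +kernel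

theorem chk127 : cert.checkSteps (cert.N - 1 + cert.j0 + steps0.length + steps1.length + steps2.length + steps3.length + steps4.length + steps5.length + steps6.length + steps7.length + steps8.length + steps9.length + steps10.length + steps11.length + steps12.length + steps13.length + steps14.length + steps15.length + steps16.length + steps17.length + steps18.length + steps19.length + steps20.length + steps21.length + steps22.length + steps23.length + steps24.length + steps25.length + steps26.length + steps27.length + steps28.length + steps29.length + steps30.length + steps31.length + steps32.length + steps33.length + steps34.length + steps35.length + steps36.length + steps37.length + steps38.length + steps39.length + steps40.length + steps41.length + steps42.length + steps43.length + steps44.length + steps45.length + steps46.length + steps47.length + steps48.length + steps49.length + steps50.length + steps51.length + steps52.length + steps53.length + steps54.length + steps55.length + steps56.length + steps57.length + steps58.length + steps59.length + steps60.length + steps61.length + steps62.length + steps63.length + steps64.length + steps65.length + steps66.length + steps67.length + steps68.length + steps69.length + steps70.length + steps71.length + steps72.length + steps73.length + steps74.length + steps75.length + steps76.length + steps77.length + steps78.length + steps79.length + steps80.length + steps81.length + steps82.length + steps83.length + steps84.length + steps85.length + steps86.length + steps87.length + steps88.length + steps89.length + steps90.length + steps91.length + steps92.length + steps93.length + steps94.length + steps95.length + steps96.length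 + steps97.length + steps98.length + steps99.length + steps100.length + steps101.length + steps102.length + steps103.length + steps104.length + steps105.length + steps106.length + steps107.length + steps108.length + steps109.length + steps110.length + steps111.length + steps112.length + steps113.length + steps114.length + steps115.length + steps116.length + steps117.length + steps118.length + steps119.length + steps120.length + steps121.length + steps122.length + steps123.length + steps124.length + steps125.length + steps126.length) steps127 = true := by decide +kernel

theorem chk128 : cert.checkSteps (cert.N - 1 + cert.j0 + steps0.length + steps1.length + steps2.length + steps3.length + steps4.length + steps5.length + steps6.length + steps7.length + steps8.length + steps9.length + steps10.length + steps11.length + steps12.length + steps13.length + steps14.length + steps15.length + steps16.length + steps17.length + steps18.length + steps19.length + steps20.length + steps21.length + steps22.length + steps23.length + steps24.length + steps25.length + steps26.length + steps27.length + steps28.length + steps29.length + steps30.length + steps31.length + steps32.length + steps33.length + steps34.length + steps35.length + steps36.length + steps37.length + steps38.length + steps39.length + steps40.length + steps41.length + steps42.length + steps43.length + steps44.length + steps45.length + steps46.length + steps47.length + steps48.length + steps49.length + steps50.length + steps51.length + steps52.length + steps53.length + steps54.length + steps55.length + steps56.length + steps57.length + steps58.length + steps59.length + steps60.length + steps61.length + steps62.length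 + steps63.length + steps64.length + steps65.length + steps66.length + steps67.length + steps68.length + steps69.length + steps70.length + steps71.length + steps72.length + steps73.length + steps74.length + steps75.length + steps76.length + steps77.length + steps78.length + steps79.length + steps80.length + steps81.length + steps82.length + steps83.length + steps84.length + steps85.length + steps86.length + steps87.length + steps88.length + steps89.length + steps90.length + steps91.length + steps92.length + steps93.length + steps94.length + steps95.length + steps96.length + steps97.length + steps98.length + steps99.length + steps100.length + steps101.length + steps102.length + steps103.length + steps104.length + steps105.length + steps106.length + steps107.length + steps108.length + steps109.length + steps110.length + steps111.length + steps112.length + steps113.length + steps114.length + steps115.length + steps116.length + steps117.length + steps118.length + steps119.length + steps120.length + steps121.length + steps122.length + steps123.length + steps124.length + steps125.length + steps126.length + steps127.length) steps128 = true := by decide +kernel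

theorem chk129 : cert.checkSteps (cert.N - 1 + cert.j0 + steps0.length + steps1.length + steps2.length + steps3.length + steps4.length + steps5.length + steps6.length + steps7.length + steps8.length + steps9.length + steps10.length + steps11.length + steps12.length + steps13.length + steps14.length + steps15.length + steps16.length + steps17.length + steps18.length + steps19.length + steps20.length + steps21.length + steps22.length + steps23.length + steps24.length + steps25.length + steps26.length + steps27.length + steps28.length + steps29.length + steps30.length + steps31.length + steps32.length + steps33.length + steps34.length + steps35.length + steps36.length + steps37.length + steps38.length + steps39.length + steps40.length + steps41.length + steps42.length + steps43.length + steps44.length + steps45.length + steps46.length + steps47.length + steps48.length + steps49.length + steps50.length + steps51.length + steps52.length + steps53.length + steps54.length + steps55.length + steps56.length + steps57.length + steps58.length + steps59.length + steps60.length + steps61.length + steps62.length + steps63.length + steps64.length + steps65.length + steps66.length + steps67.length + steps68.length + steps69.length + steps70.length + steps71.length + steps72.length + steps73.length + steps74.length + steps75.length + steps76.length + steps77.length + steps78.length + steps79.length + steps80.length + steps81.length + steps82.length + steps83.length + steps84.length + steps85.length + steps86.length + steps87.length + steps88.length + steps89.length + steps90.length + steps91.length + steps92.length + steps93.length + steps94.length + steps95.length + steps96.length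 + steps97.length + steps98.length + steps99.length + steps100.length + steps101.length + steps102.length + steps103.length + steps104.length + steps105.length + steps106.length + steps107.length + steps108.length + steps109.length + steps110.length + steps111.length + steps112.length + steps113.length + steps114.length + steps115.length + steps116.length + steps117.length + steps118.length + steps119.length + steps120.length + steps121.length + steps122.length + steps123.length + steps124.length + steps125.length + steps126.length + steps127.length + steps128.length) steps129 = true := by decide +kernel

theorem chk130 : cert.checkSteps (cert.N - 1 + cert.j0 + steps0.length + steps1.length + steps2.length + steps3.length + steps4.length + steps5.length + steps6.length + steps7.length + steps8.length + steps9.length + steps10.length + steps11.length + steps12.length + steps13.length + steps14.length + steps15.length + steps16.length + steps17.length + steps18.length + steps19.length + steps20.length + steps21.length + steps22.length + steps23.length + steps24.length + steps25.length + steps26.length + steps27.length + steps28.length + steps29.length + steps30.length + steps31.length + steps32.length + steps33.length + steps34.length + steps35.length + steps36.length + steps37.length + steps38.length + steps39.length + steps40.length + steps41.length + steps42.length + steps43.length + steps44.length + steps45.length + steps46.length + steps47.length + steps48.length + steps49.length + steps50.length + steps51.length + steps52.length + steps53.length + steps54.length + steps55.length + steps56.length + steps57.length + steps58.length + steps59.length + steps60.length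 + steps61.length + steps62.length + steps63.length + steps64.length + steps65.length + steps66.length + steps67.length + steps68.length + steps69.length + steps70.length + steps71.length + steps72.length + steps73.length + steps74.length + steps75.length + steps76.length + steps77.length + steps78.length + steps79.length + steps80.length + steps81.length + steps82.length + steps83.length + steps84.length + steps85.length + steps86.length + steps87.length + steps88.length + steps89.length + steps90.length + steps91.length + steps92.length + steps93.length + steps94.length + steps95.length + steps96.length + steps97.length + steps98.length + steps99.length + steps100.length + steps101.length + steps102.length + steps103.length + steps104.length + steps105.length + steps106.length + steps107.length + steps108.length + steps109.length + steps110.length + steps111.length + steps112.length + steps113.length + steps114.length + steps115.length + steps116.length + steps117.length + steps118.length + steps119.length + steps120.length + steps121.length + steps122.length + steps123.length + steps124.length + steps125.length + steps126.length + steps127.length + steps128.length + steps129.length) steps130 = true := by decide +kernel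

theorem chk131 : cert.checkSteps (cert.N - 1 + cert.j0 + steps0.length + steps1.length + steps2.length + steps3.length + steps4.length + steps5.length + steps6.length + steps7.length + steps8.length + steps9.length + steps10.length + steps11.length + steps12.length + steps13.length + steps14.length + steps15.length + steps16.length + steps17.length + steps18.length + steps19.length + steps20.length + steps21.length + steps22.length + steps23.length + steps24.length + steps25.length + steps26.length + steps27.length + steps28.length + steps29.length + steps30.length + steps31.length + steps32.length + steps33.length + steps34.length + steps35.length + steps36.length + steps37.length + steps38.length + steps39.length + steps40.length + steps41.length + steps42.length + steps43.length + steps44.length + steps45.length + steps46.length + steps47.length + steps48.length + steps49.length + steps50.length + steps51.length + steps52.length + steps53.length + steps54.length + steps55.length + steps56.length + steps57.length + steps58.length + steps59.length + steps60.length + steps61.length + steps62.length + steps63.length + steps64.length + steps65.length + steps66.length + steps67.length + steps68.length + steps69.length + steps70.length + steps71.length + steps72.length + steps73.length + steps74.length + steps75.length + steps76.length + steps77.length + steps78.length + steps79.length + steps80.length + steps81.length + steps82.length + steps83.length + steps84.length + steps85.length + steps86.length + steps87.length + steps88.length + steps89.length + steps90.length + steps91.length + steps92.length + steps93.length + steps94.length + steps95.length + steps96.length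 + steps97.length + steps98.length + steps99.length + steps100.length + steps101.length + steps102.length + steps103.length + steps104.length + steps105.length + steps106.length + steps107.length + steps108.length + steps109.length + steps110.length + steps111.length + steps112.length + steps113.length + steps114.length + steps115.length + steps116.length + steps117.length + steps118.length + steps119.length + steps120.length + steps121.length + steps122.length + steps123.length + steps124.length + steps125.length + steps126.length + steps127.length + steps128.length + steps129.length + steps130.length) steps131 = true := by decide +kernel

theorem chk132 : cert.checkSteps (cert.N - 1 + cert.j0 + steps0.length + steps1.length + steps2.length + steps3.length + steps4.length + steps5.length + steps6.length + steps7.length + steps8.length + steps9.length + steps10.length + steps11.length + steps12.length + steps13.length + steps14.length + steps15.length + steps16.length + steps17.length + steps18.length + steps19.length + steps20.length + steps21.length + steps22.length + steps23.length + steps24.length + steps25.length + steps26.length + steps27.length + steps28.length + steps29.length + steps30.length + steps31.length + steps32.length + steps33.length + steps34.length + steps35.length + steps36.length + steps37.length + steps38.length + steps39.length + steps40.length + steps41.length + steps42.length + steps43.length + steps44.length + steps45.length + steps46.length + steps47.length + steps48.length + steps49.length + steps50.length + steps51.length + steps52.length + steps53.length + steps54.length + steps55.length + steps56.length + steps57.length + steps58.length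 + steps59.length + steps60.length + steps61.length + steps62.length + steps63.length + steps64.length + steps65.length + steps66.length + steps67.length + steps68.length + steps69.length + steps70.length + steps71.length + steps72.length + steps73.length + steps74.length + steps75.length + steps76.length + steps77.length + steps78.length + steps79.length + steps80.length + steps81.length + steps82.length + steps83.length + steps84.length + steps85.length + steps86.length + steps87.length + steps88.length + steps89.length + steps90.length + steps91.length + steps92.length + steps93.length + steps94.length + steps95.length + steps96.length + steps97.length + steps98.length + steps99.length + steps100.length + steps101.length + steps102.length + steps103.length + steps104.length + steps105.length + steps106.length + steps107.length + steps108.length + steps109.length + steps110.length + steps111.length + steps112.length + steps113.length + steps114.length + steps115.length + steps116.length + steps117.length + steps118.length + steps119.length + steps120.length + steps121.length + steps122.length + steps123.length + steps124.length + steps125.length + steps126.length + steps127.length + steps128.length + steps129.length + steps130.length + steps131.length) steps132 = true := by decide +kernel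

theorem chk133 : cert.checkSteps (cert.N - 1 + cert.j0 + steps0.length + steps1.length + steps2.length + steps3.length + steps4.length + steps5.length + steps6.length + steps7.length + steps8.length + steps9.length + steps10.length + steps11.length + steps12.length + steps13.length + steps14.length + steps15.length + steps16.length + steps17.length + steps18.length + steps19.length + steps20.length + steps21.length + steps22.length + steps23.length + steps24.length + steps25.length + steps26.length + steps27.length + steps28.length + steps29.length + steps30.length + steps31.length + steps32.length + steps33.length + steps34.length + steps35.length + steps36.length + steps37.length + steps38.length + steps39.length + steps40.length + steps41.length + steps42.length + steps43.length + steps44.length + steps45.length + steps46.length + steps47.length + steps48.length + steps49.length + steps50.length + steps51.length + steps52.length + steps53.length + steps54.length + steps55.length + steps56.length + steps57.length + steps58.length + steps59.length + steps60.length + steps61.length + steps62.length + steps63.length + steps64.length + steps65.length + steps66.length + steps67.length + steps68.length + steps69.length + steps70.length + steps71.length + steps72.length + steps73.length + steps74.length + steps75.length + steps76.length + steps77.length + steps78.length + steps79.length + steps80.length + steps81.length + steps82.length + steps83.length + steps84.length + steps85.length + steps86.length + steps87.length + steps88.length + steps89.length + steps90.length + steps91.length + steps92.length + steps93.length + steps94.length + steps95.length + steps96.length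 + steps97.length + steps98.length + steps99.length + steps100.length + steps101.length + steps102.length + steps103.length + steps104.length + steps105.length + steps106.length + steps107.length + steps108.length + steps109.length + steps110.length + steps111.length + steps112.length + steps113.length + steps114.length + steps115.length + steps116.length + steps117.length + steps118.length + steps119.length + steps120.length + steps121.length + steps122.length + steps123.length + steps124.length + steps125.length + steps126.length + steps127.length + steps128.length + steps129.length + steps130.length + steps131.length + steps132.length) steps133 = true := by decide +kernel

theorem chk134 : cert.checkSteps (cert.N - 1 + cert.j0 + steps0.length + steps1.length + steps2.length + steps3.length + steps4.length + steps5.length + steps6.length + steps7.length + steps8.length + steps9.length + steps10.length + steps11.length + steps12.length + steps13.length + steps14.length + steps15.length + steps16.length + steps17.length + steps18.length + steps19.length + steps20.length + steps21.length + steps22.length + steps23.length + steps24.length + steps25.length + steps26.length + steps27.length + steps28.length + steps29.length + steps30.length + steps31.length + steps32.length + steps33.length + steps34.length + steps35.length + steps36.length + steps37.length + steps38.length + steps39.length + steps40.length + steps41.length + steps42.length + steps43.length + steps44.length + steps45.length + steps46.length + steps47.length + steps48.length + steps49.length + steps50.length + steps51.length + steps52.length + steps53.length + steps54.length + steps55.length + steps56.length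 + steps57.length + steps58.length + steps59.length + steps60.length + steps61.length + steps62.length + steps63.length + steps64.length + steps65.length + steps66.length + steps67.length + steps68.length + steps69.length + steps70.length + steps71.length + steps72.length + steps73.length + steps74.length + steps75.length + steps76.length + steps77.length + steps78.length + steps79.length + steps80.length + steps81.length + steps82.length + steps83.length + steps84.length + steps85.length + steps86.length + steps87.length + steps88.length + steps89.length + steps90.length + steps91.length + steps92.length + steps93.length + steps94.length + steps95.length + steps96.length + steps97.length + steps98.length + steps99.length + steps100.length + steps101.length + steps102.length + steps103.length + steps104.length + steps105.length + steps106.length + steps107.length + steps108.length + steps109.length + steps110.length + steps111.length + steps112.length + steps113.length + steps114.length + steps115.length + steps116.length + steps117.length + steps118.length + steps119.length + steps120.length + steps121.length + steps122.length + steps123.length + steps124.length + steps125.length + steps126.length + steps127.length + steps128.length + steps129.length + steps130.length + steps131.length + steps132.length + steps133.length) steps134 = true := by decide +kernel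

theorem chk135 : cert.checkSteps (cert.N - 1 + cert.j0 + steps0.length + steps1.length + steps2.length + steps3.length + steps4.length + steps5.length + steps6.length + steps7.length + steps8.length + steps9.length + steps10.length + steps11.length + steps12.length + steps13.length + steps14.length + steps15.length + steps16.length + steps17.length + steps18.length + steps19.length + steps20.length + steps21.length + steps22.length + steps23.length + steps24.length + steps25.length + steps26.length + steps27.length + steps28.length + steps29.length + steps30.length + steps31.length + steps32.length + steps33.length + steps34.length + steps35.length + steps36.length + steps37.length + steps38.length + steps39.length + steps40.length + steps41.length + steps42.length + steps43.length + steps44.length + steps45.length + steps46.length + steps47.length + steps48.length + steps49.length + steps50.length + steps51.length + steps52.length + steps53.length + steps54.length + steps55.length + steps56.length + steps57.length + steps58.length + steps59.length + steps60.length + steps61.length + steps62.length + steps63.length + steps64.length + steps65.length + steps66.length + steps67.length + steps68.length + steps69.length + steps70.length + steps71.length + steps72.length + steps73.length + steps74.length + steps75.length + steps76.length + steps77.length + steps78.length + steps79.length + steps80.length + steps81.length + steps82.length + steps83.length + steps84.length + steps85.length + steps86.length + steps87.length + steps88.length + steps89.length + steps90.length + steps91.length + steps92.length + steps93.length + steps94.length + steps95.length + steps96.length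 + steps97.length + steps98.length + steps99.length + steps100.length + steps101.length + steps102.length + steps103.length + steps104.length + steps105.length + steps106.length + steps107.length + steps108.length + steps109.length + steps110.length + steps111.length + steps112.length + steps113.length + steps114.length + steps115.length + steps116.length + steps117.length + steps118.length + steps119.length + steps120.length + steps121.length + steps122.length + steps123.length + steps124.length + steps125.length + steps126.length + steps127.length + steps128.length + steps129.length + steps130.length + steps131.length + steps132.length + steps133.length + steps134.length) steps135 = true := by decide +kernel

theorem chk136 : cert.checkSteps (cert.N - 1 + cert.j0 + steps0.length + steps1.length + steps2.length + steps3.length + steps4.length + steps5.length + steps6.length + steps7.length + steps8.length + steps9.length + steps10.length + steps11.length + steps12.length + steps13.length + steps14.length + steps15.length + steps16.length + steps17.length + steps18.length + steps19.length + steps20.length + steps21.length + steps22.length + steps23.length + steps24.length + steps25.length + steps26.length + steps27.length + steps28.length + steps29.length + steps30.length + steps31.length + steps32.length + steps33.length + steps34.length + steps35.length + steps36.length + steps37.length + steps38.length + steps39.length + steps40.length + steps41.length + steps42.length + steps43.length + steps44.length + steps45.length + steps46.length + steps47.length + steps48.length + steps49.length + steps50.length + steps51.length + steps52.length + steps53.length + steps54.length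 + steps55.length + steps56.length + steps57.length + steps58.length + steps59.length + steps60.length + steps61.length + steps62.length + steps63.length + steps64.length + steps65.length + steps66.length + steps67.length + steps68.length + steps69.length + steps70.length + steps71.length + steps72.length + steps73.length + steps74.length + steps75.length + steps76.length + steps77.length + steps78.length + steps79.length + steps80.length + steps81.length + steps82.length + steps83.length + steps84.length + steps85.length + steps86.length + steps87.length + steps88.length + steps89.length + steps90.length + steps91.length + steps92.length + steps93.length + steps94.length + steps95.length + steps96.length + steps97.length + steps98.length + steps99.length + steps100.length + steps101.length + steps102.length + steps103.length + steps104.length + steps105.length + steps106.length + steps107.length + steps108.length + steps109.length + steps110.length + steps111.length + steps112.length + steps113.length + steps114.length + steps115.length + steps116.length + steps117.length + steps118.length + steps119.length + steps120.length + steps121.length + steps122.length + steps123.length + steps124.length + steps125.length + steps126.length + steps127.length + steps128.length + steps129.length + steps130.length + steps131.length + steps132.length + steps133.length + steps134.length + steps135.length) steps136 = true := by decide +kernel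

theorem chk137 : cert.checkSteps (cert.N - 1 + cert.j0 + steps0.length + steps1.length + steps2.length + steps3.length + steps4.length + steps5.length + steps6.length + steps7.length + steps8.length + steps9.length + steps10.length + steps11.length + steps12.length + steps13.length + steps14.length + steps15.length + steps16.length + steps17.length + steps18.length + steps19.length + steps20.length + steps21.length + steps22.length + steps23.length + steps24.length + steps25.length + steps26.length + steps27.length + steps28.length + steps29.length + steps30.length + steps31.length + steps32.length + steps33.length + steps34.length + steps35.length + steps36.length + steps37.length + steps38.length + steps39.length + steps40.length + steps41.length + steps42.length + steps43.length + steps44.length + steps45.length + steps46.length + steps47.length + steps48.length + steps49.length + steps50.length + steps51.length + steps52.length + steps53.length + steps54.length + steps55.length + steps56.length + steps57.length + steps58.length + steps59.length + steps60.length + steps61.length + steps62.length + steps63.length + steps64.length + steps65.length + steps66.length + steps67.length + steps68.length + steps69.length + steps70.length + steps71.length + steps72.length + steps73.length + steps74.length + steps75.length + steps76.length + steps77.length + steps78.length + steps79.length + steps80.length + steps81.length + steps82.length + steps83.length + steps84.length + steps85.length + steps86.length + steps87.length + steps88.length + steps89.length + steps90.length + steps91.length + steps92.length + steps93.length + steps94.length + steps95.length + steps96.length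 + steps97.length + steps98.length + steps99.length + steps100.length + steps101.length + steps102.length + steps103.length + steps104.length + steps105.length + steps106.length + steps107.length + steps108.length + steps109.length + steps110.length + steps111.length + steps112.length + steps113.length + steps114.length + steps115.length + steps116.length + steps117.length + steps118.length + steps119.length + steps120.length + steps121.length + steps122.length + steps123.length + steps124.length + steps125.length + steps126.length + steps127.length + steps128.length + steps129.length + steps130.length + steps131.length + steps132.length + steps133.length + steps134.length + steps135.length + steps136.length) steps137 = true := by decide +kernel

theorem chk138 : cert.checkSteps (cert.N - 1 + cert.j0 + steps0.length + steps1.length + steps2.length + steps3.length + steps4.length + steps5.length + steps6.length + steps7.length + steps8.length + steps9.length + steps10.length + steps11.length + steps12.length + steps13.length + steps14.length + steps15.length + steps16.length + steps17.length + steps18.length + steps19.length + steps20.length + steps21.length + steps22.length + steps23.length + steps24.length + steps25.length + steps26.length + steps27.length + steps28.length + steps29.length + steps30.length + steps31.length + steps32.length + steps33.length + steps34.length + steps35.length + steps36.length + steps37.length + steps38.length + steps39.length + steps40.length + steps41.length + steps42.length + steps43.length + steps44.length + steps45.length + steps46.length + steps47.length + steps48.length + steps49.length + steps50.length + steps51.length + steps52.length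 + steps53.length + steps54.length + steps55.length + steps56.length + steps57.length + steps58.length + steps59.length + steps60.length + steps61.length + steps62.length + steps63.length + steps64.length + steps65.length + steps66.length + steps67.length + steps68.length + steps69.length + steps70.length + steps71.length + steps72.length + steps73.length + steps74.length + steps75.length + steps76.length + steps77.length + steps78.length + steps79.length + steps80.length + steps81.length + steps82.length + steps83.length + steps84.length + steps85.length + steps86.length + steps87.length + steps88.length + steps89.length + steps90.length + steps91.length + steps92.length + steps93.length + steps94.length + steps95.length + steps96.length + steps97.length + steps98.length + steps99.length + steps100.length + steps101.length + steps102.length + steps103.length + steps104.length + steps105.length + steps106.length + steps107.length + steps108.length + steps109.length + steps110.length + steps111.length + steps112.length + steps113.length + steps114.length + steps115.length + steps116.length + steps117.length + steps118.length + steps119.length + steps120.length + steps121.length + steps122.length + steps123.length + steps124.length + steps125.length + steps126.length + steps127.length + steps128.length + steps129.length + steps130.length + steps131.length + steps132.length + steps133.length + steps134.length + steps135.length + steps136.length + steps137.length) steps138 = true := by decide +kernel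

theorem chk139 : cert.checkSteps (cert.N - 1 + cert.j0 + steps0.length + steps1.length + steps2.length + steps3.length + steps4.length + steps5.length + steps6.length + steps7.length + steps8.length + steps9.length + steps10.length + steps11.length + steps12.length + steps13.length + steps14.length + steps15.length + steps16.length + steps17.length + steps18.length + steps19.length + steps20.length + steps21.length + steps22.length + steps23.length + steps24.length + steps25.length + steps26.length + steps27.length + steps28.length + steps29.length + steps30.length + steps31.length + steps32.length + steps33.length + steps34.length + steps35.length + steps36.length + steps37.length + steps38.length + steps39.length + steps40.length + steps41.length + steps42.length + steps43.length + steps44.length + steps45.length + steps46.length + steps47.length + steps48.length + steps49.length + steps50.length + steps51.length + steps52.length + steps53.length + steps54.length + steps55.length + steps56.length + steps57.length + steps58.length + steps59.length + steps60.length + steps61.length + steps62.length + steps63.length + steps64.length + steps65.length + steps66.length + steps67.length + steps68.length + steps69.length + steps70.length + steps71.length + steps72.length + steps73.length + steps74.length + steps75.length + steps76.length + steps77.length + steps78.length + steps79.length + steps80.length + steps81.length + steps82.length + steps83.length + steps84.length + steps85.length + steps86.length + steps87.length + steps88.length + steps89.length + steps90.length + steps91.length + steps92.length + steps93.length + steps94.length + steps95.length + steps96.length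 + steps97.length + steps98.length + steps99.length + steps100.length + steps101.length + steps102.length + steps103.length + steps104.length + steps105.length + steps106.length + steps107.length + steps108.length + steps109.length + steps110.length + steps111.length + steps112.length + steps113.length + steps114.length + steps115.length + steps116.length + steps117.length + steps118.length + steps119.length + steps120.length + steps121.length + steps122.length + steps123.length + steps124.length + steps125.length + steps126.length + steps127.length + steps128.length + steps129.length + steps130.length + steps131.length + steps132.length + steps133.length + steps134.length + steps135.length + steps136.length + steps137.length + steps138.length) steps139 = true := by decide +kernel

theorem chk140 : cert.checkSteps (cert.N - 1 + cert.j0 + steps0.length + steps1.length + steps2.length + steps3.length + steps4.length + steps5.length + steps6.length + steps7.length + steps8.length + steps9.length + steps10.length + steps11.length + steps12.length + steps13.length + steps14.length + steps15.length + steps16.length + steps17.length + steps18.length + steps19.length + steps20.length + steps21.length + steps22.length + steps23.length + steps24.length + steps25.length + steps26.length + steps27.length + steps28.length + steps29.length + steps30.length + steps31.length + steps32.length + steps33.length + steps34.length + steps35.length + steps36.length + steps37.length + steps38.length + steps39.length + steps40.length + steps41.length + steps42.length + steps43.length + steps44.length + steps45.length + steps46.length + steps47.length + steps48.length + steps49.length + steps50.length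 + steps51.length + steps52.length + steps53.length + steps54.length + steps55.length + steps56.length + steps57.length + steps58.length + steps59.length + steps60.length + steps61.length + steps62.length + steps63.length + steps64.length + steps65.length + steps66.length + steps67.length + steps68.length + steps69.length + steps70.length + steps71.length + steps72.length + steps73.length + steps74.length + steps75.length + steps76.length + steps77.length + steps78.length + steps79.length + steps80.length + steps81.length + steps82.length + steps83.length + steps84.length + steps85.length + steps86.length + steps87.length + steps88.length + steps89.length + steps90.length + steps91.length + steps92.length + steps93.length + steps94.length + steps95.length + steps96.length + steps97.length + steps98.length + steps99.length + steps100.length + steps101.length + steps102.length + steps103.length + steps104.length + steps105.length + steps106.length + steps107.length + steps108.length + steps109.length + steps110.length + steps111.length + steps112.length + steps113.length + steps114.length + steps115.length + steps116.length + steps117.length + steps118.length + steps119.length + steps120.length + steps121.length + steps122.length + steps123.length + steps124.length + steps125.length + steps126.length + steps127.length + steps128.length + steps129.length + steps130.length + steps131.length + steps132.length + steps133.length + steps134.length + steps135.length + steps136.length + steps137.length + steps138.length + steps139.length) steps140 = true := by decide +kernel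

theorem chk141 : cert.checkSteps (cert.N - 1 + cert.j0 + steps0.length + steps1.length + steps2.length + steps3.length + steps4.length + steps5.length + steps6.length + steps7.length + steps8.length + steps9.length + steps10.length + steps11.length + steps12.length + steps13.length + steps14.length + steps15.length + steps16.length + steps17.length + steps18.length + steps19.length + steps20.length + steps21.length + steps22.length + steps23.length + steps24.length + steps25.length + steps26.length + steps27.length + steps28.length + steps29.length + steps30.length + steps31.length + steps32.length + steps33.length + steps34.length + steps35.length + steps36.length + steps37.length + steps38.length + steps39.length + steps40.length + steps41.length + steps42.length + steps43.length + steps44.length + steps45.length + steps46.length + steps47.length + steps48.length + steps49.length + steps50.length + steps51.length + steps52.length + steps53.length + steps54.length + steps55.length + steps56.length + steps57.length + steps58.length + steps59.length + steps60.length + steps61.length + steps62.length + steps63.length + steps64.length + steps65.length + steps66.length + steps67.length + steps68.length + steps69.length + steps70.length + steps71.length + steps72.length + steps73.length + steps74.length + steps75.length + steps76.length + steps77.length + steps78.length + steps79.length + steps80.length + steps81.length + steps82.length + steps83.length + steps84.length + steps85.length + steps86.length + steps87.length + steps88.length + steps89.length + steps90.length + steps91.length + steps92.length + steps93.length + steps94.length + steps95.length + steps96.length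 + steps97.length + steps98.length + steps99.length + steps100.length + steps101.length + steps102.length + steps103.length + steps104.length + steps105.length + steps106.length + steps107.length + steps108.length + steps109.length + steps110.length + steps111.length + steps112.length + steps113.length + steps114.length + steps115.length + steps116.length + steps117.length + steps118.length + steps119.length + steps120.length + steps121.length + steps122.length + steps123.length + steps124.length + steps125.length + steps126.length + steps127.length + steps128.length + steps129.length + steps130.length + steps131.length + steps132.length + steps133.length + steps134.length + steps135.length + steps136.length + steps137.length + steps138.length + steps139.length + steps140.length) steps141 = true := by decide +kernel

theorem chk142 : cert.checkSteps (cert.N - 1 + cert.j0 + steps0.length + steps1.length + steps2.length + steps3.length + steps4.length + steps5.length + steps6.length + steps7.length + steps8.length + steps9.length + steps10.length + steps11.length + steps12.length + steps13.length + steps14.length + steps15.length + steps16.length + steps17.length + steps18.length + steps19.length + steps20.length + steps21.length + steps22.length + steps23.length + steps24.length + steps25.length + steps26.length + steps27.length + steps28.length + steps29.length + steps30.length + steps31.length + steps32.length + steps33.length + steps34.length + steps35.length + steps36.length + steps37.length + steps38.length + steps39.length + steps40.length + steps41.length + steps42.length + steps43.length + steps44.length + steps45.length + steps46.length + steps47.length +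 steps48.length + steps49.length + steps50.length + steps51.length + steps52.length + steps53.length + steps54.length + steps55.length + steps56.length + steps57.length + steps58.length + steps59.length + steps60.length + steps61.length + steps62.length + steps63.length + steps64.length + steps65.length + steps66.length + steps67.length + steps68.length + steps69.length + steps70.length + steps71.length + steps72.length + steps73.length + steps74.length + steps75.length + steps76.length + steps77.length + steps78.length + steps79.length + steps80.length + steps81.length + steps82.length + steps83.length + steps84.length + steps85.length + steps86.length + steps87.length + steps88.length + steps89.length + steps90.length + steps91.length + steps92.length + steps93.length + steps94.length + steps95.length + steps96.length + steps97.length + steps98.length + steps99.length + steps100.length + steps101.length + steps102.length + steps103.length + steps104.length + steps105.length + steps106.length + steps107.length + steps108.length + steps109.length + steps110.length + steps111.length + steps112.length + steps113.length + steps114.length + steps115.length + steps116.length + steps117.length + steps118.length + steps119.length + steps120.length + steps121.length + steps122.length + steps123.length + steps124.length + steps125.length + steps126.length + steps127.length + steps128.length + steps129.length + steps130.length + steps131.length + steps132.length + steps133.length + steps134.length + steps135.length + steps136.length + steps137.length + steps138.length + steps139.length + steps140.length + steps141.length) steps142 = true := by decide +kernel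

theorem chk143 : cert.checkSteps (cert.N - 1 + cert.j0 + steps0.length + steps1.length + steps2.length + steps3.length + steps4.length + steps5.length + steps6.length + steps7.length + steps8.length + steps9.length + steps10.length + steps11.length + steps12.length + steps13.length + steps14.length + steps15.length + steps16.length + steps17.length + steps18.length + steps19.length + steps20.length + steps21.length + steps22.length + steps23.length + steps24.length + steps25.length + steps26.length + steps27.length + steps28.length + steps29.length + steps30.length + steps31.length + steps32.length + steps33.length + steps34.length + steps35.length + steps36.length + steps37.length + steps38.length + steps39.length + steps40.length + steps41.length + steps42.length + steps43.length + steps44.length + steps45.length + steps46.length + steps47.length + steps48.length + steps49.length + steps50.length + steps51.length + steps52.length + steps53.length + steps54.length + steps55.length + steps56.length + steps57.length + steps58.length + steps59.length + steps60.length + steps61.length + steps62.length + steps63.length + steps64.length + steps65.length + steps66.length + steps67.length + steps68.length + steps69.length + steps70.length + steps71.length + steps72.length + steps73.length + steps74.length + steps75.length + steps76.length + steps77.length + steps78.length + steps79.length + steps80.length + steps81.length + steps82.length + steps83.length + steps84.length + steps85.length + steps86.length + steps87.length + steps88.length + steps89.length + steps90.length + steps91.length + steps92.length + steps93.length + steps94.length + steps95.length + steps96.length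 + steps97.length + steps98.length + steps99.length + steps100.length + steps101.length + steps102.length + steps103.length + steps104.length + steps105.length + steps106.length + steps107.length + steps108.length + steps109.length + steps110.length + steps111.length + steps112.length + steps113.length + steps114.length + steps115.length + steps116.length + steps117.length + steps118.length + steps119.length + steps120.length + steps121.length + steps122.length + steps123.length + steps124.length + steps125.length + steps126.length + steps127.length + steps128.length + steps129.length + steps130.length + steps131.length + steps132.length + steps133.length + steps134.length + steps135.length + steps136.length + steps137.length + steps138.length + steps139.length + steps140.length + steps141.length + steps142.length) steps143 = true := by decide +kernel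

theorem chk144 : cert.checkSteps (cert.N - 1 + cert.j0 + steps0.length + steps1.length + steps2.length + steps3.length + steps4.length + steps5.length + steps6.length + steps7.length + steps8.length + steps9.length + steps10.length + steps11.length + steps12.length + steps13.length + steps14.length + steps15.length + steps16.length + steps17.length + steps18.length + steps19.length + steps20.length + steps21.length + steps22.length + steps23.length + steps24.length + steps25.length + steps26.length + steps27.length + steps28.length + steps29.length + steps30.length + steps31.length + steps32.length + steps33.length + steps34.length + steps35.length + steps36.length + steps37.length + steps38.length + steps39.length + steps40.length + steps41.length + steps42.length + steps43.length + steps44.length + steps45.length + steps46.length + steps47.length + steps48.length + steps49.length + steps50.length + steps51.length + steps52.length + steps53.length + steps54.length + steps55.length + steps56.length + steps57.length + steps58.length + steps59.length + steps60.length + steps61.length + steps62.length + steps63.length + steps64.length + steps65.length + steps66.length + steps67.length + steps68.length + steps69.length + steps70.length + steps71.length + steps72.length + steps73.length + steps74.length + steps75.length + steps76.length + steps77.length + steps78.length + steps79.length + steps80.length + steps81.length + steps82.length + steps83.length + steps84.length + steps85.length + steps86.length + steps87.length + steps88.length + steps89.length + steps90.length + steps91.length + steps92.length + steps93.length + steps94.length + steps95.length + steps96.length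 + steps97.length + steps98.length + steps99.length + steps100.length + steps101.length + steps102.length + steps103.length + steps104.length + steps105.length + steps106.length + steps107.length + steps108.length + steps109.length + steps110.length + steps111.length + steps112.length + steps113.length + steps114.length + steps115.length + steps116.length + steps117.length + steps118.length + steps119.length + steps120.length + steps121.length + steps122.length + steps123.length + steps124.length + steps125.length + steps126.length + steps127.length + steps128.length + steps129.length + steps130.length + steps131.length + steps132.length + steps133.length + steps134.length + steps135.length + steps136.length + steps137.length + steps138.length + steps139.length + steps140.length + steps141.length + steps142.length + steps143.length) steps144 = true := by decide +kernel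

theorem chk145 : cert.checkSteps (cert.N - 1 + cert.j0 + steps0.length + steps1.length + steps2.length + steps3.length + steps4.length + steps5.length + steps6.length + steps7.length + steps8.length + steps9.length + steps10.length + steps11.length + steps12.length + steps13.length + steps14.length + steps15.length + steps16.length + steps17.length + steps18.length + steps19.length + steps20.length + steps21.length + steps22.length + steps23.length + steps24.length + steps25.length + steps26.length + steps27.length + steps28.length + steps29.length + steps30.length + steps31.length + steps32.length + steps33.length + steps34.length + steps35.length + steps36.length + steps37.length + steps38.length + steps39.length + steps40.length + steps41.length + steps42.length + steps43.length + steps44.length + steps45.length + steps46.length + steps47.length + steps48.length + steps49.length + steps50.length + steps51.length + steps52.length + steps53.length + steps54.length + steps55.length + steps56.length + steps57.length + steps58.length + steps59.length + steps60.length + steps61.length + steps62.length + steps63.length + steps64.length + steps65.length + steps66.length + steps67.length + steps68.length + steps69.length + steps70.length + steps71.length + steps72.length + steps73.length + steps74.length + steps75.length + steps76.length + steps77.length + steps78.length + steps79.length + steps80.length + steps81.length + steps82.length + steps83.length + steps84.length + steps85.length + steps86.length + steps87.length + steps88.length + steps89.length + steps90.length + steps91.length + steps92.length + steps93.length + steps94.length + steps95.length + steps96.length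 + steps97.length + steps98.length + steps99.length + steps100.length + steps101.length + steps102.length + steps103.length + steps104.length + steps105.length + steps106.length + steps107.length + steps108.length + steps109.length + steps110.length + steps111.length + steps112.length + steps113.length + steps114.length + steps115.length + steps116.length + steps117.length + steps118.length + steps119.length + steps120.length + steps121.length + steps122.length + steps123.length + steps124.length + steps125.length + steps126.length + steps127.length + steps128.length + steps129.length + steps130.length + steps131.length + steps132.length + steps133.length + steps134.length + steps135.length + steps136.length + steps137.length + steps138.length + steps139.length + steps140.length + steps141.length + steps142.length + steps143.length + steps144.length) steps145 = true := by decide +kernel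

theorem chk146 : cert.checkSteps (cert.N - 1 + cert.j0 + steps0.length + steps1.length + steps2.length + steps3.length + steps4.length + steps5.length + steps6.length + steps7.length + steps8.length + steps9.length + steps10.length + steps11.length + steps12.length + steps13.length + steps14.length + steps15.length + steps16.length + steps17.length + steps18.length + steps19.length + steps20.length + steps21.length + steps22.length + steps23.length + steps24.length + steps25.length + steps26.length + steps27.length + steps28.length + steps29.length + steps30.length + steps31.length + steps32.length + steps33.length + steps34.length + steps35.length + steps36.length + steps37.length + steps38.length + steps39.length + steps40.length + steps41.length + steps42.length + steps43.length + steps44.length + steps45.length + steps46.length + steps47.length + steps48.length + steps49.length + steps50.length + steps51.length + steps52.length + steps53.length + steps54.length + steps55.length + steps56.length + steps57.length + steps58.length + steps59.length + steps60.length + steps61.length + steps62.length + steps63.length + steps64.length + steps65.length + steps66.length + steps67.length + steps68.length + steps69.length + steps70.length + steps71.length + steps72.length + steps73.length + steps74.length + steps75.length + steps76.length + steps77.length + steps78.length + steps79.length + steps80.length + steps81.length + steps82.length + steps83.length + steps84.length + steps85.length + steps86.length + steps87.length + steps88.length + steps89.length + steps90.length + steps91.length + steps92.length + steps93.length + steps94.length + steps95.length + steps96.length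 + steps97.length + steps98.length + steps99.length + steps100.length + steps101.length + steps102.length + steps103.length + steps104.length + steps105.length + steps106.length + steps107.length + steps108.length + steps109.length + steps110.length + steps111.length + steps112.length + steps113.length + steps114.length + steps115.length + steps116.length + steps117.length + steps118.length + steps119.length + steps120.length + steps121.length + steps122.length + steps123.length + steps124.length + steps125.length + steps126.length + steps127.length + steps128.length + steps129.length + steps130.length + steps131.length + steps132.length + steps133.length + steps134.length + steps135.length + steps136.length + steps137.length + steps138.length + steps139.length + steps140.length + steps141.length + steps142.length + steps143.length + steps144.length + steps145.length) steps146 = true := by decide +kernel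

theorem chk147 : cert.checkSteps (cert.N - 1 + cert.j0 + steps0.length + steps1.length + steps2.length + steps3.length + steps4.length + steps5.length + steps6.length + steps7.length + steps8.length + steps9.length + steps10.length + steps11.length + steps12.length + steps13.length + steps14.length + steps15.length + steps16.length + steps17.length + steps18.length + steps19.length + steps20.length + steps21.length + steps22.length + steps23.length + steps24.length + steps25.length + steps26.length + steps27.length + steps28.length + steps29.length + steps30.length + steps31.length + steps32.length + steps33.length + steps34.length + steps35.length + steps36.length + steps37.length + steps38.length + steps39.length + steps40.length + steps41.length + steps42.length + steps43.length + steps44.length + steps45.length + steps46.length + steps47.length + steps48.length + steps49.length + steps50.length + steps51.length + steps52.length + steps53.length + steps54.length + steps55.length + steps56.length + steps57.length + steps58.length + steps59.length + steps60.length + steps61.length + steps62.length + steps63.length + steps64.length + steps65.length + steps66.length + steps67.length + steps68.length + steps69.length + steps70.length + steps71.length + steps72.length + steps73.length + steps74.length + steps75.length + steps76.length + steps77.length + steps78.length + steps79.length + steps80.length + steps81.length + steps82.length + steps83.length + steps84.length + steps85.length + steps86.length + steps87.length + steps88.length + steps89.length + steps90.length + steps91.length + steps92.length + steps93.length + steps94.length + steps95.length + steps96.length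 + steps97.length + steps98.length + steps99.length + steps100.length + steps101.length + steps102.length + steps103.length + steps104.length + steps105.length + steps106.length + steps107.length + steps108.length + steps109.length + steps110.length + steps111.length + steps112.length + steps113.length + steps114.length + steps115.length + steps116.length + steps117.length + steps118.length + steps119.length + steps120.length + steps121.length + steps122.length + steps123.length + steps124.length + steps125.length + steps126.length + steps127.length + steps128.length + steps129.length + steps130.length + steps131.length + steps132.length + steps133.length + steps134.length + steps135.length + steps136.length + steps137.length + steps138.length + steps139.length + steps140.length + steps141.length + steps142.length + steps143.length + steps144.length + steps145.length + steps146.length) steps147 = true := by decide +kernel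

theorem chk148 : cert.checkSteps (cert.N - 1 + cert.j0 + steps0.length + steps1.length + steps2.length + steps3.length + steps4.length + steps5.length + steps6.length + steps7.length + steps8.length + steps9.length + steps10.length + steps11.length + steps12.length + steps13.length + steps14.length + steps15.length + steps16.length + steps17.length + steps18.length + steps19.length + steps20.length + steps21.length + steps22.length + steps23.length + steps24.length + steps25.length + steps26.length + steps27.length + steps28.length + steps29.length + steps30.length + steps31.length + steps32.length + steps33.length + steps34.length + steps35.length + steps36.length + steps37.length + steps38.length + steps39.length + steps40.length + steps41.length + steps42.length + steps43.length + steps44.length + steps45.length + steps46.length + steps47.length + steps48.length + steps49.length + steps50.length + steps51.length + steps52.length + steps53.length + steps54.length + steps55.length + steps56.length + steps57.length + steps58.length + steps59.length + steps60.length + steps61.length + steps62.length + steps63.length + steps64.length + steps65.length + steps66.length + steps67.length + steps68.length + steps69.length + steps70.length + steps71.length + steps72.length + steps73.length + steps74.length + steps75.length + steps76.length + steps77.length + steps78.length + steps79.length + steps80.length + steps81.length + steps82.length + steps83.length + steps84.length + steps85.length + steps86.length + steps87.length + steps88.length + steps89.length + steps90.length + steps91.length + steps92.length + steps93.length + steps94.length + steps95.length + steps96.length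 + steps97.length + steps98.length + steps99.length + steps100.length + steps101.length + steps102.length + steps103.length + steps104.length + steps105.length + steps106.length + steps107.length + steps108.length + steps109.length + steps110.length + steps111.length + steps112.length + steps113.length + steps114.length + steps115.length + steps116.length + steps117.length + steps118.length + steps119.length + steps120.length + steps121.length + steps122.length + steps123.length + steps124.length + steps125.length + steps126.length + steps127.length + steps128.length + steps129.length + steps130.length + steps131.length + steps132.length + steps133.length + steps134.length + steps135.length + steps136.length + steps137.length + steps138.length + steps139.length + steps140.length + steps141.length + steps142.length + steps143.length + steps144.length + steps145.length + steps146.length + steps147.length) steps148 = true := by decide +kernel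

theorem chk149 : cert.checkSteps (cert.N - 1 + cert.j0 + steps0.length + steps1.length + steps2.length + steps3.length + steps4.length + steps5.length + steps6.length + steps7.length + steps8.length + steps9.length + steps10.length + steps11.length + steps12.length + steps13.length + steps14.length + steps15.length + steps16.length + steps17.length + steps18.length + steps19.length + steps20.length + steps21.length + steps22.length + steps23.length + steps24.length + steps25.length + steps26.length + steps27.length + steps28.length + steps29.length + steps30.length + steps31.length + steps32.length + steps33.length + steps34.length + steps35.length + steps36.length + steps37.length + steps38.length + steps39.length + steps40.length + steps41.length + steps42.length + steps43.length + steps44.length + steps45.length + steps46.length + steps47.length + steps48.length + steps49.length + steps50.length + steps51.length + steps52.length + steps53.length + steps54.length + steps55.length + steps56.length + steps57.length + steps58.length + steps59.length + steps60.length + steps61.length + steps62.length + steps63.length + steps64.length + steps65.length + steps66.length + steps67.length + steps68.length + steps69.length + steps70.length + steps71.length + steps72.length + steps73.length + steps74.length + steps75.length + steps76.length + steps77.length + steps78.length + steps79.length + steps80.length + steps81.length + steps82.length + steps83.length + steps84.length + steps85.length + steps86.length + steps87.length + steps88.length + steps89.length + steps90.length + steps91.length + steps92.length + steps93.length + steps94.length + steps95.length + steps96.length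 + steps97.length + steps98.length + steps99.length + steps100.length + steps101.length + steps102.length + steps103.length + steps104.length + steps105.length + steps106.length + steps107.length + steps108.length + steps109.length + steps110.length + steps111.length + steps112.length + steps113.length + steps114.length + steps115.length + steps116.length + steps117.length + steps118.length + steps119.length + steps120.length + steps121.length + steps122.length + steps123.length + steps124.length + steps125.length + steps126.length + steps127.length + steps128.length + steps129.length + steps130.length + steps131.length + steps132.length + steps133.length + steps134.length + steps135.length + steps136.length + steps137.length + steps138.length + steps139.length + steps140.length + steps141.length + steps142.length + steps143.length + steps144.length + steps145.length + steps146.length + steps147.length + steps148.length) steps149 = true := by decide +kernel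

theorem chk150 : cert.checkSteps (cert.N - 1 + cert.j0 + steps0.length + steps1.length + steps2.length + steps3.length + steps4.length + steps5.length + steps6.length + steps7.length + steps8.length + steps9.length + steps10.length + steps11.length + steps12.length + steps13.length + steps14.length + steps15.length + steps16.length + steps17.length + steps18.length + steps19.length + steps20.length + steps21.length + steps22.length + steps23.length + steps24.length + steps25.length + steps26.length + steps27.length + steps28.length + steps29.length + steps30.length + steps31.length + steps32.length + steps33.length + steps34.length + steps35.length + steps36.length + steps37.length + steps38.length + steps39.length + steps40.length + steps41.length + steps42.length + steps43.length + steps44.length + steps45.length + steps46.length + steps47.length + steps48.length + steps49.length + steps50.length + steps51.length + steps52.length + steps53.length + steps54.length + steps55.length + steps56.length + steps57.length + steps58.length + steps59.length + steps60.length + steps61.length + steps62.length + steps63.length + steps64.length + steps65.length + steps66.length + steps67.length + steps68.length + steps69.length + steps70.length + steps71.length + steps72.length + steps73.length + steps74.length + steps75.length + steps76.length + steps77.length + steps78.length + steps79.length + steps80.length + steps81.length + steps82.length + steps83.length + steps84.length + steps85.length + steps86.length + steps87.length + steps88.length + steps89.length + steps90.length + steps91.length + steps92.length + steps93.length + steps94.length + steps95.length + steps96.length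 + steps97.length + steps98.length + steps99.length + steps100.length + steps101.length + steps102.length + steps103.length + steps104.length + steps105.length + steps106.length + steps107.length + steps108.length + steps109.length + steps110.length + steps111.length + steps112.length + steps113.length + steps114.length + steps115.length + steps116.length + steps117.length + steps118.length + steps119.length + steps120.length + steps121.length + steps122.length + steps123.length + steps124.length + steps125.length + steps126.length + steps127.length + steps128.length + steps129.length + steps130.length + steps131.length + steps132.length + steps133.length + steps134.length + steps135.length + steps136.length + steps137.length + steps138.length + steps139.length + steps140.length + steps141.length + steps142.length + steps143.length + steps144.length + steps145.length + steps146.length + steps147.length + steps148.length + steps149.length) steps150 = true := by decide +kernel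

theorem chk151 : cert.checkSteps (cert.N - 1 + cert.j0 + steps0.length + steps1.length + steps2.length + steps3.length + steps4.length + steps5.length + steps6.length + steps7.length + steps8.length + steps9.length + steps10.length + steps11.length + steps12.length + steps13.length + steps14.length + steps15.length + steps16.length + steps17.length + steps18.length + steps19.length + steps20.length + steps21.length + steps22.length + steps23.length + steps24.length + steps25.length + steps26.length + steps27.length + steps28.length + steps29.length + steps30.length + steps31.length + steps32.length + steps33.length + steps34.length + steps35.length + steps36.length + steps37.length + steps38.length + steps39.length + steps40.length + steps41.length + steps42.length + steps43.length + steps44.length + steps45.length + steps46.length + steps47.length + steps48.length + steps49.length + steps50.length + steps51.length + steps52.length + steps53.length + steps54.length + steps55.length + steps56.length + steps57.length + steps58.length + steps59.length + steps60.length + steps61.length + steps62.length + steps63.length + steps64.length + steps65.length + steps66.length + steps67.length + steps68.length + steps69.length + steps70.length + steps71.length + steps72.length + steps73.length + steps74.length + steps75.length + steps76.length + steps77.length + steps78.length + steps79.length + steps80.length + steps81.length + steps82.length + steps83.length + steps84.length + steps85.length + steps86.length + steps87.length + steps88.length + steps89.length + steps90.length + steps91.length + steps92.length + steps93.length + steps94.length + steps95.length + steps96.length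 + steps97.length + steps98.length + steps99.length + steps100.length + steps101.length + steps102.length + steps103.length + steps104.length + steps105.length + steps106.length + steps107.length + steps108.length + steps109.length + steps110.length + steps111.length + steps112.length + steps113.length + steps114.length + steps115.length + steps116.length + steps117.length + steps118.length + steps119.length + steps120.length + steps121.length + steps122.length + steps123.length + steps124.length + steps125.length + steps126.length + steps127.length + steps128.length + steps129.length + steps130.length + steps131.length + steps132.length + steps133.length + steps134.length + steps135.length + steps136.length + steps137.length + steps138.length + steps139.length + steps140.length + steps141.length + steps142.length + steps143.length + steps144.length + steps145.length + steps146.length + steps147.length + steps148.length + steps149.length + steps150.length) steps151 = true := by decide +kernel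

theorem chk152 : cert.checkSteps (cert.N - 1 + cert.j0 + steps0.length + steps1.length + steps2.length + steps3.length + steps4.length + steps5.length + steps6.length + steps7.length + steps8.length + steps9.length + steps10.length + steps11.length + steps12.length + steps13.length + steps14.length + steps15.length + steps16.length + steps17.length + steps18.length + steps19.length + steps20.length + steps21.length + steps22.length + steps23.length + steps24.length + steps25.length + steps26.length + steps27.length + steps28.length + steps29.length + steps30.length + steps31.length + steps32.length + steps33.length + steps34.length + steps35.length + steps36.length + steps37.length + steps38.length + steps39.length + steps40.length + steps41.length + steps42.length + steps43.length + steps44.length + steps45.length + steps46.length + steps47.length + steps48.length + steps49.length + steps50.length + steps51.length + steps52.length + steps53.length + steps54.length + steps55.length + steps56.length + steps57.length + steps58.length + steps59.length + steps60.length + steps61.length + steps62.length + steps63.length + steps64.length + steps65.length + steps66.length + steps67.length + steps68.length + steps69.length + steps70.length + steps71.length + steps72.length + steps73.length + steps74.length + steps75.length + steps76.length + steps77.length + steps78.length + steps79.length + steps80.length + steps81.length + steps82.length + steps83.length + steps84.length + steps85.length + steps86.length + steps87.length + steps88.length + steps89.length + steps90.length + steps91.length + steps92.length + steps93.length + steps94.length + steps95.length + steps96.length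 + steps97.length + steps98.length + steps99.length + steps100.length + steps101.length + steps102.length + steps103.length + steps104.length + steps105.length + steps106.length + steps107.length + steps108.length + steps109.length + steps110.length + steps111.length + steps112.length + steps113.length + steps114.length + steps115.length + steps116.length + steps117.length + steps118.length + steps119.length + steps120.length + steps121.length + steps122.length + steps123.length + steps124.length + steps125.length + steps126.length + steps127.length + steps128.length + steps129.length + steps130.length + steps131.length + steps132.length + steps133.length + steps134.length + steps135.length + steps136.length + steps137.length + steps138.length + steps139.length + steps140.length + steps141.length + steps142.length + steps143.length + steps144.length + steps145.length + steps146.length + steps147.length + steps148.length + steps149.length + steps150.length + steps151.length) steps152 = true := by decide +kernel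

theorem chk153 : cert.checkSteps (cert.N - 1 + cert.j0 + steps0.length + steps1.length + steps2.length + steps3.length + steps4.length + steps5.length + steps6.length + steps7.length + steps8.length + steps9.length + steps10.length + steps11.length + steps12.length + steps13.length + steps14.length + steps15.length + steps16.length + steps17.length + steps18.length + steps19.length + steps20.length + steps21.length + steps22.length + steps23.length + steps24.length + steps25.length + steps26.length + steps27.length + steps28.length + steps29.length + steps30.length + steps31.length + steps32.length + steps33.length + steps34.length + steps35.length + steps36.length + steps37.length + steps38.length + steps39.length + steps40.length + steps41.length + steps42.length + steps43.length + steps44.length + steps45.length + steps46.length + steps47.length + steps48.length + steps49.length + steps50.length + steps51.length + steps52.length + steps53.length + steps54.length + steps55.length + steps56.length + steps57.length + steps58.length + steps59.length + steps60.length + steps61.length + steps62.length + steps63.length + steps64.length + steps65.length + steps66.length + steps67.length + steps68.length + steps69.length + steps70.length + steps71.length + steps72.length + steps73.length + steps74.length + steps75.length + steps76.length + steps77.length + steps78.length + steps79.length + steps80.length + steps81.length + steps82.length + steps83.length + steps84.length + steps85.length + steps86.length + steps87.length + steps88.length + steps89.length + steps90.length + steps91.length + steps92.length + steps93.length + steps94.length + steps95.length + steps96.length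 + steps97.length + steps98.length + steps99.length + steps100.length + steps101.length + steps102.length + steps103.length + steps104.length + steps105.length + steps106.length + steps107.length + steps108.length + steps109.length + steps110.length + steps111.length + steps112.length + steps113.length + steps114.length + steps115.length + steps116.length + steps117.length + steps118.length + steps119.length + steps120.length + steps121.length + steps122.length + steps123.length + steps124.length + steps125.length + steps126.length + steps127.length + steps128.length + steps129.length + steps130.length + steps131.length + steps132.length + steps133.length + steps134.length + steps135.length + steps136.length + steps137.length + steps138.length + steps139.length + steps140.length + steps141.length + steps142.length + steps143.length + steps144.length + steps145.length + steps146.length + steps147.length + steps148.length + steps149.length + steps150.length + steps151.length + steps152.length) steps153 = true := by decide +kernel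

theorem chk154 : cert.checkSteps (cert.N - 1 + cert.j0 + steps0.length + steps1.length + steps2.length + steps3.length + steps4.length + steps5.length + steps6.length + steps7.length + steps8.length + steps9.length + steps10.length + steps11.length + steps12.length + steps13.length + steps14.length + steps15.length + steps16.length + steps17.length + steps18.length + steps19.length + steps20.length + steps21.length + steps22.length + steps23.length + steps24.length + steps25.length + steps26.length + steps27.length + steps28.length + steps29.length + steps30.length + steps31.length + steps32.length + steps33.length + steps34.length + steps35.length + steps36.length + steps37.length + steps38.length + steps39.length + steps40.length + steps41.length + steps42.length + steps43.length + steps44.length + steps45.length + steps46.length + steps47.length + steps48.length + steps49.length + steps50.length + steps51.length + steps52.length + steps53.length + steps54.length + steps55.length + steps56.length + steps57.length + steps58.length + steps59.length + steps60.length + steps61.length + steps62.length + steps63.length + steps64.length + steps65.length + steps66.length + steps67.length + steps68.length + steps69.length + steps70.length + steps71.length + steps72.length + steps73.length + steps74.length + steps75.length + steps76.length + steps77.length + steps78.length + steps79.length + steps80.length + steps81.length + steps82.length + steps83.length + steps84.length + steps85.length + steps86.length + steps87.length + steps88.length + steps89.length + steps90.length + steps91.length + steps92.length + steps93.length + steps94.length + steps95.length + steps96.length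 + steps97.length + steps98.length + steps99.length + steps100.length + steps101.length + steps102.length + steps103.length + steps104.length + steps105.length + steps106.length + steps107.length + steps108.length + steps109.length + steps110.length + steps111.length + steps112.length + steps113.length + steps114.length + steps115.length + steps116.length + steps117.length + steps118.length + steps119.length + steps120.length + steps121.length + steps122.length + steps123.length + steps124.length + steps125.length + steps126.length + steps127.length + steps128.length + steps129.length + steps130.length + steps131.length + steps132.length + steps133.length + steps134.length + steps135.length + steps136.length + steps137.length + steps138.length + steps139.length + steps140.length + steps141.length + steps142.length + steps143.length + steps144.length + steps145.length + steps146.length + steps147.length + steps148.length + steps149.length + steps150.length + steps151.length + steps152.length + steps153.length) steps154 = true := by decide +kernel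

theorem chk155 : cert.checkSteps (cert.N - 1 + cert.j0 + steps0.length + steps1.length + steps2.length + steps3.length + steps4.length + steps5.length + steps6.length + steps7.length + steps8.length + steps9.length + steps10.length + steps11.length + steps12.length + steps13.length + steps14.length + steps15.length + steps16.length + steps17.length + steps18.length + steps19.length + steps20.length + steps21.length + steps22.length + steps23.length + steps24.length + steps25.length + steps26.length + steps27.length + steps28.length + steps29.length + steps30.length + steps31.length + steps32.length + steps33.length + steps34.length + steps35.length + steps36.length + steps37.length + steps38.length + steps39.length + steps40.length + steps41.length + steps42.length + steps43.length + steps44.length + steps45.length + steps46.length + steps47.length + steps48.length + steps49.length + steps50.length + steps51.length + steps52.length + steps53.length + steps54.length + steps55.length + steps56.length + steps57.length + steps58.length + steps59.length + steps60.length + steps61.length + steps62.length + steps63.length + steps64.length + steps65.length + steps66.length + steps67.length + steps68.length + steps69.length + steps70.length + steps71.length + steps72.length + steps73.length + steps74.length + steps75.length + steps76.length + steps77.length + steps78.length + steps79.length + steps80.length + steps81.length + steps82.length + steps83.length + steps84.length + steps85.length + steps86.length + steps87.length + steps88.length + steps89.length + steps90.length + steps91.length + steps92.length + steps93.length + steps94.length + steps95.length + steps96.length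 + steps97.length + steps98.length + steps99.length + steps100.length + steps101.length + steps102.length + steps103.length + steps104.length + steps105.length + steps106.length + steps107.length + steps108.length + steps109.length + steps110.length + steps111.length + steps112.length + steps113.length + steps114.length + steps115.length + steps116.length + steps117.length + steps118.length + steps119.length + steps120.length + steps121.length + steps122.length + steps123.length + steps124.length + steps125.length + steps126.length + steps127.length + steps128.length + steps129.length + steps130.length + steps131.length + steps132.length + steps133.length + steps134.length + steps135.length + steps136.length + steps137.length + steps138.length + steps139.length + steps140.length + steps141.length + steps142.length + steps143.length + steps144.length + steps145.length + steps146.length + steps147.length + steps148.length + steps149.length + steps150.length + steps151.length + steps152.length + steps153.length + steps154.length) steps155 = true := by decide +kernel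

theorem chk156 : cert.checkSteps (cert.N - 1 + cert.j0 + steps0.length + steps1.length + steps2.length + steps3.length + steps4.length + steps5.length + steps6.length + steps7.length + steps8.length + steps9.length + steps10.length + steps11.length + steps12.length + steps13.length + steps14.length + steps15.length + steps16.length + steps17.length + steps18.length + steps19.length + steps20.length + steps21.length + steps22.length + steps23.length + steps24.length + steps25.length + steps26.length + steps27.length + steps28.length + steps29.length + steps30.length + steps31.length + steps32.length + steps33.length + steps34.length + steps35.length + steps36.length + steps37.length + steps38.length + steps39.length + steps40.length + steps41.length + steps42.length + steps43.length + steps44.length + steps45.length + steps46.length + steps47.length + steps48.length + steps49.length + steps50.length + steps51.length + steps52.length + steps53.length + steps54.length + steps55.length + steps56.length + steps57.length + steps58.length + steps59.length + steps60.length + steps61.length + steps62.length + steps63.length + steps64.length + steps65.length + steps66.length + steps67.length + steps68.length + steps69.length + steps70.length + steps71.length + steps72.length + steps73.length + steps74.length + steps75.length + steps76.length + steps77.length + steps78.length + steps79.length + steps80.length + steps81.length + steps82.length + steps83.length + steps84.length + steps85.length + steps86.length + steps87.length + steps88.length + steps89.length + steps90.length + steps91.length + steps92.length + steps93.length + steps94.length + steps95.length + steps96.length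 + steps97.length + steps98.length + steps99.length + steps100.length + steps101.length + steps102.length + steps103.length + steps104.length + steps105.length + steps106.length + steps107.length + steps108.length + steps109.length + steps110.length + steps111.length + steps112.length + steps113.length + steps114.length + steps115.length + steps116.length + steps117.length + steps118.length + steps119.length + steps120.length + steps121.length + steps122.length + steps123.length + steps124.length + steps125.length + steps126.length + steps127.length + steps128.length + steps129.length + steps130.length + steps131.length + steps132.length + steps133.length + steps134.length + steps135.length + steps136.length + steps137.length + steps138.length + steps139.length + steps140.length + steps141.length + steps142.length + steps143.length + steps144.length + steps145.length + steps146.length + steps147.length + steps148.length + steps149.length + steps150.length + steps151.length + steps152.length + steps153.length + steps154.length + steps155.length) steps156 = true := by decide +kernel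

theorem chk157 : cert.checkSteps (cert.N - 1 + cert.j0 + steps0.length + steps1.length + steps2.length + steps3.length + steps4.length + steps5.length + steps6.length + steps7.length + steps8.length + steps9.length + steps10.length + steps11.length + steps12.length + steps13.length + steps14.length + steps15.length + steps16.length + steps17.length + steps18.length + steps19.length + steps20.length + steps21.length + steps22.length + steps23.length + steps24.length + steps25.length + steps26.length + steps27.length + steps28.length + steps29.length + steps30.length + steps31.length + steps32.length + steps33.length + steps34.length + steps35.length + steps36.length + steps37.length + steps38.length + steps39.length + steps40.length + steps41.length + steps42.length + steps43.length + steps44.length + steps45.length + steps46.length + steps47.length + steps48.length + steps49.length + steps50.length + steps51.length + steps52.length + steps53.length + steps54.length + steps55.length + steps56.length + steps57.length + steps58.length + steps59.length + steps60.length + steps61.length + steps62.length + steps63.length + steps64.length + steps65.length + steps66.length + steps67.length + steps68.length + steps69.length + steps70.length + steps71.length + steps72.length + steps73.length + steps74.length + steps75.length + steps76.length + steps77.length + steps78.length + steps79.length + steps80.length + steps81.length + steps82.length + steps83.length + steps84.length + steps85.length + steps86.length + steps87.length + steps88.length + steps89.length + steps90.length + steps91.length + steps92.length + steps93.length + steps94.length + steps95.length + steps96.length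 + steps97.length + steps98.length + steps99.length + steps100.length + steps101.length + steps102.length + steps103.length + steps104.length + steps105.length + steps106.length + steps107.length + steps108.length + steps109.length + steps110.length + steps111.length + steps112.length + steps113.length + steps114.length + steps115.length + steps116.length + steps117.length + steps118.length + steps119.length + steps120.length + steps121.length + steps122.length + steps123.length + steps124.length + steps125.length + steps126.length + steps127.length + steps128.length + steps129.length + steps130.length + steps131.length + steps132.length + steps133.length + steps134.length + steps135.length + steps136.length + steps137.length + steps138.length + steps139.length + steps140.length + steps141.length + steps142.length + steps143.length + steps144.length + steps145.length + steps146.length + steps147.length + steps148.length + steps149.length + steps150.length + steps151.length + steps152.length + steps153.length + steps154.length + steps155.length + steps156.length) steps157 = true := by decide +kernel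

theorem chk158 : cert.checkSteps (cert.N - 1 + cert.j0 + steps0.length + steps1.length + steps2.length + steps3.length + steps4.length + steps5.length + steps6.length + steps7.length + steps8.length + steps9.length + steps10.length + steps11.length + steps12.length + steps13.length + steps14.length + steps15.length + steps16.length + steps17.length + steps18.length + steps19.length + steps20.length + steps21.length + steps22.length + steps23.length + steps24.length + steps25.length + steps26.length + steps27.length + steps28.length + steps29.length + steps30.length + steps31.length + steps32.length + steps33.length + steps34.length + steps35.length + steps36.length + steps37.length + steps38.length + steps39.length + steps40.length + steps41.length + steps42.length + steps43.length + steps44.length + steps45.length + steps46.length + steps47.length + steps48.length + steps49.length + steps50.length + steps51.length + steps52.length + steps53.length + steps54.length + steps55.length + steps56.length + steps57.length + steps58.length + steps59.length + steps60.length + steps61.length + steps62.length + steps63.length + steps64.length + steps65.length + steps66.length + steps67.length + steps68.length + steps69.length + steps70.length + steps71.length + steps72.length + steps73.length + steps74.length + steps75.length + steps76.length + steps77.length + steps78.length + steps79.length + steps80.length + steps81.length + steps82.length + steps83.length + steps84.length + steps85.length + steps86.length + steps87.length + steps88.length + steps89.length + steps90.length + steps91.length + steps92.length + steps93.length + steps94.length + steps95.length + steps96.length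 + steps97.length + steps98.length + steps99.length + steps100.length + steps101.length + steps102.length + steps103.length + steps104.length + steps105.length + steps106.length + steps107.length + steps108.length + steps109.length + steps110.length + steps111.length + steps112.length + steps113.length + steps114.length + steps115.length + steps116.length + steps117.length + steps118.length + steps119.length + steps120.length + steps121.length + steps122.length + steps123.length + steps124.length + steps125.length + steps126.length + steps127.length + steps128.length + steps129.length + steps130.length + steps131.length + steps132.length + steps133.length + steps134.length + steps135.length + steps136.length + steps137.length + steps138.length + steps139.length + steps140.length + steps141.length + steps142.length + steps143.length + steps144.length + steps145.length + steps146.length + steps147.length + steps148.length + steps149.length + steps150.length + steps151.length + steps152.length + steps153.length + steps154.length + steps155.length + steps156.length + steps157.length) steps158 = true := by decide +kernel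

theorem chk159 : cert.checkSteps (cert.N - 1 + cert.j0 + steps0.length + steps1.length + steps2.length + steps3.length + steps4.length + steps5.length + steps6.length + steps7.length + steps8.length + steps9.length + steps10.length + steps11.length + steps12.length + steps13.length + steps14.length + steps15.length + steps16.length + steps17.length + steps18.length + steps19.length + steps20.length + steps21.length + steps22.length + steps23.length + steps24.length + steps25.length + steps26.length + steps27.length + steps28.length + steps29.length + steps30.length + steps31.length + steps32.length + steps33.length + steps34.length + steps35.length + steps36.length + steps37.length + steps38.length + steps39.length + steps40.length + steps41.length + steps42.length + steps43.length + steps44.length + steps45.length + steps46.length + steps47.length + steps48.length + steps49.length + steps50.length + steps51.length + steps52.length + steps53.length + steps54.length + steps55.length + steps56.length + steps57.length + steps58.length + steps59.length + steps60.length + steps61.length + steps62.length + steps63.length + steps64.length + steps65.length + steps66.length + steps67.length + steps68.length + steps69.length + steps70.length + steps71.length + steps72.length + steps73.length + steps74.length + steps75.length + steps76.length + steps77.length + steps78.length + steps79.length + steps80.length + steps81.length + steps82.length + steps83.length + steps84.length + steps85.length + steps86.length + steps87.length + steps88.length + steps89.length + steps90.length + steps91.length + steps92.length + steps93.length + steps94.length + steps95.length + steps96.length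 + steps97.length + steps98.length + steps99.length + steps100.length + steps101.length + steps102.length + steps103.length + steps104.length + steps105.length + steps106.length + steps107.length + steps108.length + steps109.length + steps110.length + steps111.length + steps112.length + steps113.length + steps114.length + steps115.length + steps116.length + steps117.length + steps118.length + steps119.length + steps120.length + steps121.length + steps122.length + steps123.length + steps124.length + steps125.length + steps126.length + steps127.length + steps128.length + steps129.length + steps130.length + steps131.length + steps132.length + steps133.length + steps134.length + steps135.length + steps136.length + steps137.length + steps138.length + steps139.length + steps140.length + steps141.length + steps142.length + steps143.length + steps144.length + steps145.length + steps146.length + steps147.length + steps148.length + steps149.length + steps150.length + steps151.length + steps152.length + steps153.length + steps154.length + steps155.length + steps156.length + steps157.length + steps158.length) steps159 = true := by decide +kernel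

theorem chk160 : cert.checkSteps (cert.N - 1 + cert.j0 + steps0.length + steps1.length + steps2.length + steps3.length + steps4.length + steps5.length + steps6.length + steps7.length + steps8.length + steps9.length + steps10.length + steps11.length + steps12.length + steps13.length + steps14.length + steps15.length + steps16.length + steps17.length + steps18.length + steps19.length + steps20.length + steps21.length + steps22.length + steps23.length + steps24.length + steps25.length + steps26.length + steps27.length + steps28.length + steps29.length + steps30.length + steps31.length + steps32.length + steps33.length + steps34.length + steps35.length + steps36.length + steps37.length + steps38.length + steps39.length + steps40.length + steps41.length + steps42.length + steps43.length + steps44.length + steps45.length + steps46.length + steps47.length + steps48.length + steps49.length + steps50.length + steps51.length + steps52.length + steps53.length + steps54.length + steps55.length + steps56.length + steps57.length + steps58.length + steps59.length + steps60.length + steps61.length + steps62.length + steps63.length + steps64.length + steps65.length + steps66.length + steps67.length + steps68.length + steps69.length + steps70.length + steps71.length + steps72.length + steps73.length + steps74.length + steps75.length + steps76.length + steps77.length + steps78.length + steps79.length + steps80.length + steps81.length + steps82.length + steps83.length + steps84.length + steps85.length + steps86.length + steps87.length + steps88.length + steps89.length + steps90.length + steps91.length + steps92.length + steps93.length + steps94.length + steps95.length + steps96.length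 + steps97.length + steps98.length + steps99.length + steps100.length + steps101.length + steps102.length + steps103.length + steps104.length + steps105.length + steps106.length + steps107.length + steps108.length + steps109.length + steps110.length + steps111.length + steps112.length + steps113.length + steps114.length + steps115.length + steps116.length + steps117.length + steps118.length + steps119.length + steps120.length + steps121.length + steps122.length + steps123.length + steps124.length + steps125.length + steps126.length + steps127.length + steps128.length + steps129.length + steps130.length + steps131.length + steps132.length + steps133.length + steps134.length + steps135.length + steps136.length + steps137.length + steps138.length + steps139.length + steps140.length + steps141.length + steps142.length + steps143.length + steps144.length + steps145.length + steps146.length + steps147.length + steps148.length + steps149.length + steps150.length + steps151.length + steps152.length + steps153.length + steps154.length + steps155.length + steps156.length + steps157.length + steps158.length + steps159.length) steps160 = true := by decide +kernel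

theorem chk161 : cert.checkSteps (cert.N - 1 + cert.j0 + steps0.length + steps1.length + steps2.length + steps3.length + steps4.length + steps5.length + steps6.length + steps7.length + steps8.length + steps9.length + steps10.length + steps11.length + steps12.length + steps13.length + steps14.length + steps15.length + steps16.length + steps17.length + steps18.length + steps19.length + steps20.length + steps21.length + steps22.length + steps23.length + steps24.length + steps25.length + steps26.length + steps27.length + steps28.length + steps29.length + steps30.length + steps31.length + steps32.length + steps33.length + steps34.length + steps35.length + steps36.length + steps37.length + steps38.length + steps39.length + steps40.length + steps41.length + steps42.length + steps43.length + steps44.length + steps45.length + steps46.length + steps47.length + steps48.length + steps49.length + steps50.length + steps51.length + steps52.length + steps53.length + steps54.length + steps55.length + steps56.length + steps57.length + steps58.length + steps59.length + steps60.length + steps61.length + steps62.length + steps63.length + steps64.length + steps65.length + steps66.length + steps67.length + steps68.length + steps69.length + steps70.length + steps71.length + steps72.length + steps73.length + steps74.length + steps75.length + steps76.length + steps77.length + steps78.length + steps79.length + steps80.length + steps81.length + steps82.length + steps83.length + steps84.length + steps85.length + steps86.length + steps87.length + steps88.length + steps89.length + steps90.length + steps91.length + steps92.length + steps93.length + steps94.length + steps95.length + steps96.length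 + steps97.length + steps98.length + steps99.length + steps100.length + steps101.length + steps102.length + steps103.length + steps104.length + steps105.length + steps106.length + steps107.length + steps108.length + steps109.length + steps110.length + steps111.length + steps112.length + steps113.length + steps114.length + steps115.length + steps116.length + steps117.length + steps118.length + steps119.length + steps120.length + steps121.length + steps122.length + steps123.length + steps124.length + steps125.length + steps126.length + steps127.length + steps128.length + steps129.length + steps130.length + steps131.length + steps132.length + steps133.length + steps134.length + steps135.length + steps136.length + steps137.length + steps138.length + steps139.length + steps140.length + steps141.length + steps142.length + steps143.length + steps144.length + steps145.length + steps146.length + steps147.length + steps148.length + steps149.length + steps150.length + steps151.length + steps152.length + steps153.length + steps154.length + steps155.length + steps156.length + steps157.length + steps158.length + steps159.length + steps160.length) steps161 = true := by decide +kernel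

theorem chk162 : cert.checkSteps (cert.N - 1 + cert.j0 + steps0.length + steps1.length + steps2.length + steps3.length + steps4.length + steps5.length + steps6.length + steps7.length + steps8.length + steps9.length + steps10.length + steps11.length + steps12.length + steps13.length + steps14.length + steps15.length + steps16.length + steps17.length + steps18.length + steps19.length + steps20.length + steps21.length + steps22.length + steps23.length + steps24.length + steps25.length + steps26.length + steps27.length + steps28.length + steps29.length + steps30.length + steps31.length + steps32.length + steps33.length + steps34.length + steps35.length + steps36.length + steps37.length + steps38.length + steps39.length + steps40.length + steps41.length + steps42.length + steps43.length + steps44.length + steps45.length + steps46.length + steps47.length + steps48.length + steps49.length + steps50.length + steps51.length + steps52.length + steps53.length + steps54.length + steps55.length + steps56.length + steps57.length + steps58.length + steps59.length + steps60.length + steps61.length + steps62.length + steps63.length + steps64.length + steps65.length + steps66.length + steps67.length + steps68.length + steps69.length + steps70.length + steps71.length + steps72.length + steps73.length + steps74.length + steps75.length + steps76.length + steps77.length + steps78.length + steps79.length + steps80.length + steps81.length + steps82.length + steps83.length + steps84.length + steps85.length + steps86.length + steps87.length + steps88.length + steps89.length + steps90.length + steps91.length + steps92.length + steps93.length + steps94.length + steps95.length + steps96.length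 + steps97.length + steps98.length + steps99.length + steps100.length + steps101.length + steps102.length + steps103.length + steps104.length + steps105.length + steps106.length + steps107.length + steps108.length + steps109.length + steps110.length + steps111.length + steps112.length + steps113.length + steps114.length + steps115.length + steps116.length + steps117.length + steps118.length + steps119.length + steps120.length + steps121.length + steps122.length + steps123.length + steps124.length + steps125.length + steps126.length + steps127.length + steps128.length + steps129.length + steps130.length + steps131.length + steps132.length + steps133.length + steps134.length + steps135.length + steps136.length + steps137.length + steps138.length + steps139.length + steps140.length + steps141.length + steps142.length + steps143.length + steps144.length + steps145.length + steps146.length + steps147.length + steps148.length + steps149.length + steps150.length + steps151.length + steps152.length + steps153.length + steps154.length + steps155.length + steps156.length + steps157.length + steps158.length + steps159.length + steps160.length + steps161.length) steps162 = true := by decide +kernel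

end Cfsg.Agent.Lib.Helper92.Sz8.L2
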