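import Cfsg.Agent.Lib.Helper92.Sz8.L2PartDefs

set_option autoImplicit false
set_option maxRecDepth 1000000
set_option maxHeartbeats 0
set_option Elab.async false

namespace Cfsg.Agent.Lib.Helper92.Sz8.L2

open Cfsg.Agent.Lib.Helper89.CosetCert Cfsg.Agent.Lib.Helper89.SafePres

theorem defs_p8 : allFrom defsF 20000 2500 = true := by decide +kernel

theorem defs_p9 : allFrom defsF 22500 2500 = true := by decide +kernel

theorem defs_p10 : allFrom defsF 25000 2500 = true := by decide +kernel

theorem defs_p11 : allFrom defsF 27500 2500 = true := by decide +kernel

theorem defs_p12 : allFrom defsF 30000 2500 = true := by decide +kernel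

theorem defs_p13 : allFrom defsF 32500 2500 = true := by decide +kernel

theorem defs_p14 : allFrom defsF 35000 2500 = true := by decide +kernel

theorem defs_p15 : allFrom defsF 37500 1682 = true := by decide +kernel

end Cfsg.Agent.Lib.Helper92.Sz8.L2
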