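import Cfsg.Agent.Lib.Helper92.Sz8.L2PartDefs

set_option autoImplicit false
set_option maxRecDepth 1000000
set_option maxHeartbeats 0
set_option Elab.async false

namespace Cfsg.Agent.Lib.Helper92.Sz8.L2

open Cfsg.Agent.Lib.Helper89.CosetCert Cfsg.Agent.Lib.Helper89.SafePres

theorem fin_p0 : allFrom finF 0 500 = true := by decide +kernel

theorem fin_p1 : allFrom finF 500 500 = true := by decide +kernel

theorem fin_p2 : allFrom finF 1000 500 = true := by decide +kernel

theorem fin_p3 : allFrom finF 1500 500 = true := by decide +kernel

theorem fin_p4 : allFrom finF 2000 500 = true := by decide +kernel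

theorem fin_p5 : allFrom finF 2500 500 = true := by decide +kernel

theorem fin_p6 : allFrom finF 3000 500 = true := by decide +kernel

theorem fin_p7 : allFrom finF 3500 500 = true := by decide +kernel

theorem fin_p8 : allFrom finF 4000 500 = true := by decide +kernel

end Cfsg.Agent.Lib.Helper92.Sz8.L2
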