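import Cfsg.Agent.Lib.Helper92.Sz8.L2PartDefs

set_option autoImplicit false
set_option maxRecDepth 1000000
set_option maxHeartbeats 0
set_option Elab.async false

namespace Cfsg.Agent.Lib.Helper92.Sz8.L2

open Cfsg.Agent.Lib.Helper89.CosetCert Cfsg.Agent.Lib.Helper89.SafePres

theorem fin_p9 : allFrom finF 4500 500 = true := by decide +kernel

theorem fin_p10 : allFrom finF 5000 500 = true := by decide +kernel

theorem fin_p11 : allFrom finF 5500 500 = true := by decide +kernel

theorem fin_p12 : allFrom finF 6000 500 = true := by decide +kernel

theorem fin_p13 : allFrom finF 6500 500 = true := by decide +kernel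

theorem fin_p14 : allFrom finF 7000 500 = true := by decide +kernel

theorem fin_p15 : allFrom finF 7500 500 = true := by decide +kernel

theorem fin_p16 : allFrom finF 8000 500 = true := by decide +kernel

theorem fin_p17 : allFrom finF 8500 460 = true := by decide +kernel

end Cfsg.Agent.Lib.Helper92.Sz8.L2
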