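import Cfsg.Agent.Lib.Helper92.Sz8.L2PartA
import Cfsg.Agent.Lib.Helper92.Sz8.L2PartB
import Cfsg.Agent.Lib.Helper92.Sz8.L2PartC
import Cfsg.Agent.Lib.Helper92.Sz8.L2PartD

set_option autoImplicit false
set_option maxRecDepth 1000000
set_option maxHeartbeats 0
set_option Elab.async false

namespace Cfsg.Agent.Lib.Helper92.Sz8.L2

open Cfsg.Agent.Lib.Helper89.CosetCert Cfsg.Agent.Lib.Helper89.SafePres

theorem defsF_all (c : ℕ) (hc : c < 39182) : defsF c = true := by
  rcases Nat.lt_or_ge c 2500 with h0 | h0
  · exact allFrom_spec defsF 0 2500 defs_p0 c (by omega) (by omega)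
  rcases Nat.lt_or_ge c 5000 with h1 | h1
  · exact allFrom_spec defsF 2500 2500 defs_p1 c (by omega) (by omega)
  rcases Nat.lt_or_ge c 7500 with h2 | h2
  · exact allFrom_spec defsF 5000 2500 defs_p2 c (by omega) (by omega)
  rcases Nat.lt_or_ge c 10000 with h3 | h3
  · exact allFrom_spec defsF 7500 2500 defs_p3 c (by omega) (by omega)
  rcases Nat.lt_or_ge c 12500 with h4 | h4
  · exact allFrom_spec defsF 10000 2500 defs_p4 c (by omega) (by omega)
  rcases Nat.lt_or_ge c 15000 with h5 | h5
  · exact allFrom_spec defsF 12500 2500 defs_p5 c (by omega) (by omega)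
  rcases Nat.lt_or_ge c 17500 with h6 | h6
  · exact allFrom_spec defsF 15000 2500 defs_p6 c (by omega) (by omega)
  rcases Nat.lt_or_ge c 20000 with h7 | h7
  · exact allFrom_spec defsF 17500 2500 defs_p7 c (by omega) (by omega)
  rcases Nat.lt_or_ge c 22500 with h8 | h8
  · exact allFrom_spec defsF 20000 2500 defs_p8 c (by omega) (by omega)
  rcases Nat.lt_or_ge c 25000 with h9 | h9
  · exact allFrom_spec defsF 22500 2500 defs_p9 c (by omega) (by omega)
  rcases Nat.lt_or_ge c 27500 with h10 | h10
  · exact allFrom_spec defsF 25000 2500 defs_p10 c (by omega) (by omega)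
  rcases Nat.lt_or_ge c 30000 with h11 | h11
  · exact allFrom_spec defsF 27500 2500 defs_p11 c (by omega) (by omega)
  rcases Nat.lt_or_ge c 32500 with h12 | h12
  · exact allFrom_spec defsF 30000 2500 defs_p12 c (by omega) (by omega)
  rcases Nat.lt_or_ge c 35000 with h13 | h13
  · exact allFrom_spec defsF 32500 2500 defs_p13 c (by omega) (by omega)
  rcases Nat.lt_or_ge c 37500 with h14 | h14
  · exact allFrom_spec defsF 35000 2500 defs_p14 c (by omega) (by omega)
  exact allFrom_spec defsF 37500 1682 defs_p15 c (by omega) (by omega)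

theorem finF_all (c : ℕ) (hc : c < 8960) : finF c = true := by
  rcases Nat.lt_or_ge c 500 with h0 | h0
  · exact allFrom_spec finF 0 500 fin_p0 c (by omega) (by omega)
  rcases Nat.lt_or_ge c 1000 with h1 | h1
  · exact allFrom_spec finF 500 500 fin_p1 c (by omega) (by omega)
  rcases Nat.lt_or_ge c 1500 with h2 | h2
  · exact allFrom_spec finF 1000 500 fin_p2 c (by omega) (by omega)
  rcases Nat.lt_or_ge c 2000 with h3 | h3
  · exact allFrom_spec finF 1500 500 fin_p3 c (by omega) (by omega)
  rcases Nat.lt_or_ge c 2500 with h4 | h4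
  · exact allFrom_spec finF 2000 500 fin_p4 c (by omega) (by omega)
  rcases Nat.lt_or_ge c 3000 with h5 | h5
  · exact allFrom_spec finF 2500 500 fin_p5 c (by omega) (by omega)
  rcases Nat.lt_or_ge c 3500 with h6 | h6
  · exact allFrom_spec finF 3000 500 fin_p6 c (by omega) (by omega)
  rcases Nat.lt_or_ge c 4000 with h7 | h7
  · exact allFrom_spec finF 3500 500 fin_p7 c (by omega) (by omega)
  rcases Nat.lt_or_ge c 4500 with h8 | h8
  · exact allFrom_spec finF 4000 500 fin_p8 c (by omega) (by omega)
  rcases Nat.lt_or_ge c 5000 with h9 | h9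
  · exact allFrom_spec finF 4500 500 fin_p9 c (by omega) (by omega)
  rcases Nat.lt_or_ge c 5500 with h10 | h10
  · exact allFrom_spec finF 5000 500 fin_p10 c (by omega) (by omega)
  rcases Nat.lt_or_ge c 6000 with h11 | h11
  · exact allFrom_spec finF 5500 500 fin_p11 c (by omega) (by omega)
  rcases Nat.lt_or_ge c 6500 with h12 | h12
  · exact allFrom_spec finF 6000 500 fin_p12 c (by omega) (by omega)
  rcases Nat.lt_or_ge c 7000 with h13 | h13
  · exact allFrom_spec finF 6500 500 fin_p13 c (by omega) (by omega)
  rcases Nat.lt_or_ge c 7500 with h14 | h14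
  · exact allFrom_spec finF 7000 500 fin_p14 c (by omega) (by omega)
  rcases Nat.lt_or_ge c 8000 with h15 | h15
  · exact allFrom_spec finF 7500 500 fin_p15 c (by omega) (by omega)
  rcases Nat.lt_or_ge c 8500 with h16 | h16
  · exact allFrom_spec finF 8000 500 fin_p16 c (by omega) (by omega)
  exact allFrom_spec finF 8500 460 fin_p17 c (by omega) (by omega)

theorem defs_ok' : cert.defsOK = true := by
  unfold Cert.defsOK
  rw [List.all_eq_true]
  intro c hc
  have hN : cert.N - 1 = 39182 := rfl
  have hc' : c < 39182 := by rw [← hN]; exact List.mem_range.1 hc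
  exact defsF_all c hc'

theorem fin_ok' : cert.finOK = true := by
  have hb : cert.finBase = 74580 := by decide +kernel
  have h1 : (cert.roots.length == cert.n) = true := by decide +kernel
  have h2 : (cert.roots.headD 1 == 0) = true := by decide +kernel
  have h3 : decide (0 < cert.n) = true := by decide +kernel
  have h4 : decide (cert.n * (2 * cert.k) ≤ cert.steps.length) = true := by decide +kernel
  refine finOK_of cert 74580 hb h1 h2 h3 h4 ?_
  intro a ha
  have hn : cert.n = 8960 := rfl
  rw [hn] at ha
  exact finFgen_of_finF a ha (finF_all a ha)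

end Cfsg.Agent.Lib.Helper92.Sz8.L2
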