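import Cfsg.Agent.Lib.Helper92.Sz8.L2PartDefs

set_option autoImplicit false
set_option maxRecDepth 1000000
set_option maxHeartbeats 0
set_option Elab.async false

namespace Cfsg.Agent.Lib.Helper92.Sz8.L2

open Cfsg.Agent.Lib.Helper89.CosetCert Cfsg.Agent.Lib.Helper89.SafePres

theorem defs_p0 : allFrom defsF 0 2500 = true := by decide +kernel

theorem defs_p1 : allFrom defsF 2500 2500 = true := by decide +kernel

theorem defs_p2 : allFrom defsF 5000 2500 = true := by decide +kernel

theorem defs_p3 : allFrom defsF 7500 2500 = true := by decide +kernel

theorem defs_p4 : allFrom defsF 10000 2500 = true := by decide +kernel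

theorem defs_p5 : allFrom defsF 12500 2500 = true := by decide +kernel

theorem defs_p6 : allFrom defsF 15000 2500 = true := by decide +kernel

theorem defs_p7 : allFrom defsF 17500 2500 = true := by decide +kernel

end Cfsg.Agent.Lib.Helper92.Sz8.L2
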