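import Cfsg.Agent.Lib.Helper92.Sz8.ModData

set_option autoImplicit false
set_option maxRecDepth 1000000
set_option maxHeartbeats 0
set_option Elab.async false

namespace Cfsg.Agent.Lib.Helper92.Sz8.Mod

open Cfsg.Agent.Lib.Helper89.CosetCert Cfsg.Agent.Lib.Helper89.SafePres Cfsg.Agent.Lib.Helper93.BigPerm

def rs1 : List Word := [
  [0, 3, 1, 2, 0, 2, 0, 2, 1, 3, 1, 3, 0, 2, 1, 2],
  [3, 0, 3, 0, 3, 0, 3, 0, 2, 1, 2, 1, 2, 1, 2, 1],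
  [6, 3, 1, 1, 3, 1, 1, 3, 1, 1, 3, 1, 1, 3, 1, 1],
  [3, 0, 0, 3, 0, 0, 2, 1, 1, 2, 1, 1, 2, 0, 0],
  [4, 3, 1, 3, 1, 3, 1, 3, 1, 3, 1, 3, 1, 3, 1],
  [0, 0, 0, 0, 0, 0, 0, 0, 0, 0, 0, 0, 0],
  [2, 4, 3, 5],
  [0, 6, 1, 7]]

theorem rs1_ok : X.relsOK rs1 = true := by decide +kernel

end Cfsg.Agent.Lib.Helper92.Sz8.Mod
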