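import Cfsg.Agent.Lib.Helper92.Sz8.ModData

set_option autoImplicit false
set_option maxRecDepth 1000000
set_option maxHeartbeats 0
set_option Elab.async false

namespace Cfsg.Agent.Lib.Helper92.Sz8.Mod

open Cfsg.Agent.Lib.Helper89.CosetCert Cfsg.Agent.Lib.Helper89.SafePres Cfsg.Agent.Lib.Helper93.BigPerm

def rs2 : List Word := [
  [2, 2, 2, 2, 2, 2, 2, 2, 2, 2, 2, 2, 2],
  [2, 6, 3, 7],
  [4, 4],
  [6, 6]]

theorem rs2_ok : X.relsOK rs2 = true := by decide +kernel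

end Cfsg.Agent.Lib.Helper92.Sz8.Mod
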