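import Cfsg.Agent.Lib.Helper92.Sz8.GKFacts
import Cfsg.Agent.Lib.Helper92.Sz8.L1Cert
import Cfsg.Agent.Lib.Helper92.Sz8.L2Cert
import Cfsg.Agent.Lib.Helper92.Sz8.ModR0
import Cfsg.Agent.Lib.Helper92.Sz8.ModR1
import Cfsg.Agent.Lib.Helper92.Sz8.ModR2
import Cfsg.Agent.Lib.Helper92.M22.StemE
import Cfsg.Agent.Lib.Helper2.Sz8EXP
import Cfsg.Agent.Lib.Helper2.Sz8STEM
import Cfsg.Agent.Lib.Helper78.Sz8ISO

/-! # The Schur multiplier of `Sz(8)` is `Z/2 × Z/2` -/

set_option autoImplicit false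
set_option maxRecDepth 1000000
set_option maxHeartbeats 0

namespace Cfsg.Agent.Lib.Helper92.Sz8

open Cfsg Cfsg.Agent.Lib.Helper6.Sz Cfsg.Agent.Lib.Helper89.CosetCert
open Cfsg.Agent.Lib.Helper89.SafePres Cfsg.Agent.Lib.Helper89.SafePres2
open Cfsg.Agent.Lib.Helper89.StemSafe
open Cfsg.Agent.Lib.Helper93.BigPerm Cfsg.Agent.Lib.Helper92.StemE
open scoped commutatorElement

universe u

/-- all orders are `13` -/
def ord (_ : ℕ) : ℕ := 13

/-! ### validity in the model -/

/-- the generators of the permutation model (`gmX 2`, `gmX 3` are the central involutions) -/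
def gmX : ℕ → Equiv.Perm (Fin Mod.X.N) := Model.gm Mod.X_ok

def allW : List Word := Mod.rs0 ++ Mod.rs1 ++ Mod.rs2

theorem hmodW : ∀ w ∈ allW, ev gmX w = 1 := by
  intro w hw
  unfold allW at hw
  simp only [List.mem_append] at hw
  rcases hw with (h | h) | h
  · exact Model.relsOK_valid Mod.X_ok _ Mod.rs0_ok w h
  · exact Model.relsOK_valid Mod.X_ok _ Mod.rs1_ok w h
  · exact Model.relsOK_valid Mod.X_ok _ Mod.rs2_ok w h

/-- the first two generators of the model -/
def gm (i : ℕ) : Equiv.Perm (Fin Mod.X.N) := if i < 2 then gmX i else 1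

theorem gm_eq_one (i : ℕ) (hi : 2 ≤ i) : gm i = 1 := by
  unfold gm
  rw [if_neg (by omega)]

theorem lv_gm (l : ℕ) (hl : l < 4) : lv gm l = lv gmX l := by
  have e : gm (l / 2) = gmX (l / 2) := by
    unfold gm
    rw [if_pos (by omega)]
  unfold lv
  rw [e]

theorem ev_gm (w : Word) (hw : ∀ l ∈ w, l < 4) : ev gm w = ev gmX w := by
  induction w with
  | nil => rfl
  | cons l w ih =>
    rw [ev_cons, ev_cons, ih (fun l' hl' => hw l' (List.mem_cons_of_mem _ hl')),
      lv_gm l (hw l List.mem_cons_self)]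

theorem mem_allW : ∀ r ∈ srelsAll, r.word ∈ allW ∧ ∀ l ∈ r.word, l < 4 := by decide +kernel

theorem hvalidM : ∀ r ∈ srelsAll, ev gm r.word = 1 := fun r hr => by
  rw [ev_gm _ (mem_allW r hr).2]
  exact hmodW _ (mem_allW r hr).1

theorem pow_mem_allW : ∀ i < 2, powWord 13 i ∈ allW := by decide +kernel

/-- the relators `z1 * zw1⁻¹`, `z2 * zw2⁻¹` -/
def z1defW : Word := 4 :: winv zw1
def z2defW : Word := 6 :: winv zw2

theorem z1def_mem_allW : z1defW ∈ allW := by decide +kernel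
theorem z2def_mem_allW : z2defW ∈ allW := by decide +kernel

theorem cent1_mem_allW : ∀ i < 2, [2 * i, 4, 2 * i + 1, 5] ∈ allW := by decide +kernel
theorem cent2_mem_allW : ∀ i < 2, [2 * i, 6, 2 * i + 1, 7] ∈ allW := by decide +kernel

theorem z1sq_mem_allW : powWord 2 2 ∈ allW := by decide +kernel
theorem z2sq_mem_allW : powWord 2 3 ∈ allW := by decide +kernel

theorem ev_zw1 : ev gm zw1 = gmX 2 := by
  rw [ev_gm zw1 (by decide)]
  have h := hmodW _ z1def_mem_allW
  unfold z1defW at h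
  rw [ev_cons, ev_winv, show (4 : ℕ) = 2 * 2 from rfl, lv_two_mul] at h
  exact (mul_inv_eq_one.mp h).symm

theorem ev_zw2 : ev gm zw2 = gmX 3 := by
  rw [ev_gm zw2 (by decide)]
  have h := hmodW _ z2def_mem_allW
  unfold z2defW at h
  rw [ev_cons, ev_winv, show (6 : ℕ) = 2 * 3 from rfl, lv_two_mul] at h
  exact (mul_inv_eq_one.mp h).symm

theorem gmX2_sq : gmX 2 ^ 2 = 1 := by
  have h := hmodW _ z1sq_mem_allW
  rwa [ev_powWord] at h

theorem gmX3_sq : gmX 3 ^ 2 = 1 := by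
  have h := hmodW _ z2sq_mem_allW
  rwa [ev_powWord] at h

theorem gmX2_comm (i : ℕ) (hi : i < 2) : gm i * gmX 2 = gmX 2 * gm i := by
  have h := hmodW _ (cent1_mem_allW i hi)
  rw [ev_cons, ev_cons, ev_cons, ev_cons, ev_nil, mul_one, lv_two_mul, lv_two_mul_add_one,
    show (4 : ℕ) = 2 * 2 from rfl, show (5 : ℕ) = 2 * 2 + 1 from rfl, lv_two_mul,
    lv_two_mul_add_one] at h
  have e : gm i = gmX i := by unfold gm; rw [if_pos hi]
  rw [e]
  have h2 : gmX i * gmX 2 = (gmX i * (gmX 2 * ((gmX i)⁻¹ * (gmX 2)⁻¹))) * (gmX 2 * gmX i) := by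
    group
  rw [h2, h, one_mul]

theorem gmX3_comm (i : ℕ) (hi : i < 2) : gm i * gmX 3 = gmX 3 * gm i := by
  have h := hmodW _ (cent2_mem_allW i hi)
  rw [ev_cons, ev_cons, ev_cons, ev_cons, ev_nil, mul_one, lv_two_mul, lv_two_mul_add_one,
    show (6 : ℕ) = 2 * 3 from rfl, show (7 : ℕ) = 2 * 3 + 1 from rfl, lv_two_mul,
    lv_two_mul_add_one] at h
  have e : gm i = gmX i := by unfold gm; rw [if_pos hi]
  rw [e]
  have h2 : gmX i * gmX 3 = (gmX i * (gmX 3 * ((gmX i)⁻¹ * (gmX 3)⁻¹))) * (gmX 3 * gmX i) := by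
    group
  rw [h2, h, one_mul]

theorem gmX2_ne : gmX 2 ≠ 1 := by
  have h1 := Model.ev_ne_one Mod.X_ok [4] (by decide) 0 (by decide) (by decide +kernel)
  have e : ev gmX [4] = gmX 2 := by
    rw [ev_cons, ev_nil, mul_one, show (4 : ℕ) = 2 * 2 from rfl, lv_two_mul]
  rw [← e]
  exact h1

theorem gmX3_ne : gmX 3 ≠ 1 := by
  have h1 := Model.ev_ne_one Mod.X_ok [6] (by decide) 0 (by decide) (by decide +kernel)
  have e : ev gmX [6] = gmX 3 := by
    rw [ev_cons, ev_nil, mul_one, show (6 : ℕ) = 2 * 3 from rfl, lv_two_mul]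
  rw [← e]
  exact h1

theorem gmX23_ne : gmX 2 * (gmX 3)⁻¹ ≠ 1 := by
  have h1 := Model.ev_ne_one Mod.X_ok [4, 7] (by decide) 0 (by decide) (by decide +kernel)
  have e : ev gmX [4, 7] = gmX 2 * (gmX 3)⁻¹ := by
    rw [ev_cons, ev_cons, ev_nil, mul_one, show (4 : ℕ) = 2 * 2 from rfl, lv_two_mul,
      show (7 : ℕ) = 2 * 3 + 1 from rfl, lv_two_mul_add_one]
  rw [← e]
  exact h1

/-! ### the presentation bound -/

theorem srels_eq : L2.srels = srelsAll := rfl

theorem pw1 : ∀ q ∈ L1.pw, q.1 = ord q.2 ∧ q.2 < 2 := by decide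
theorem pw2 : ∀ q ∈ L2.pw, q.1 = ord q.2 ∧ q.2 < 2 := by decide

theorem closure_empty {L : Type*} [Group L] (t : ℕ → L) :
    Nat.card (Subgroup.closure {y | ∃ i < 0, y = t i}) ≤ 1 := by
  have : {y | ∃ i < 0, y = t i} = (∅ : Set L) := by
    ext y
    simp
  rw [this, Subgroup.closure_empty, Subgroup.card_bot]

/-- the chain of coset enumerations bounds the order of any group satisfying the relators -/
theorem hbound (L : Type u) [Group L] [Finite L] (t : ℕ → L) (ht : ∀ i, t i ^ ord i = 1)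
    (hs : ∀ r ∈ srelsAll, ev t r.word = 1) :
    Nat.card (Subgroup.closure {y | ∃ i < 2, y = t i}) ≤ 4 * 29120 := by
  have hr1 : ∀ r ∈ L1.cert.rels, ev t r = 1 := by
    show ∀ r ∈ L1.rels, ev t r = 1
    rw [L1.rels_eq]
    exact rels_valid t _ _ (fun q hq => by rw [(pw1 q hq).1]; exact ht _)
      (fun _ hr => (L1.mem_srels hr).elim)
  have hr2 : ∀ r ∈ L2.cert.rels, ev t r = 1 := by
    show ∀ r ∈ L2.rels, ev t r = 1
    rw [L2.rels_eq]
    exact rels_valid t _ _ (fun q hq => by rw [(pw2 q hq).1]; exact ht _) (srels_eq ▸ hs)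
  have c1 := cert_step t L1.cert L1.cert_ok hr1 1 (closure_empty t)
  have c2 := cert_step t L2.cert L2.cert_ok hr2 _ c1
  exact c2

/-! ### transfer to a field with eight elements -/

section F

variable {F : Type u} [Field F] [Fintype F] [CharP F 2] (hF : Fintype.card F = 8)

/-- the isomorphism from the concrete group -/
noncomputable def PhiF : GK ≃* ↥(G (sig F 1)) := (exists_mulEquiv_GK hF).some

/-- the generators -/
noncomputable def gF (i : ℕ) : ↥(G (sig F 1)) := PhiF hF (gK i)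

theorem ev_gF (w : Word) : ev (gF hF) w = PhiF hF (ev gK w) :=
  (ev_map_hom (PhiF hF).toMonoidHom gK w).symm

theorem gF_pow (i : ℕ) : gF hF i ^ ord i = 1 := by
  show PhiF hF (gK i) ^ 13 = 1
  rw [← map_pow, gK_pow, map_one]

theorem gF_eq_one (i : ℕ) (hi : 2 ≤ i) : gF hF i = 1 := by
  obtain ⟨n, rfl⟩ : ∃ n, i = n + 2 := ⟨i - 2, by omega⟩
  show PhiF hF (gK (n + 2)) = 1
  have : gK (n + 2) = 1 := rfl
  rw [this, map_one]

theorem ord_coprime (i : ℕ) : (ord i).Coprime 64 := by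
  unfold ord
  norm_num

theorem closure_gF : Subgroup.closure {y | ∃ i < 2, y = gF hF i} = ⊤ := by
  have h := map_closure_eq (PhiF hF).toMonoidHom 2 gK (gF hF) (fun i => rfl)
  rw [← h, closure_gK, ← MonoidHom.range_eq_map, MonoidHom.range_eq_top]
  exact (PhiF hF).surjective

theorem hvalidF : ∀ r ∈ srelsAll, ev (gF hF) r.word = 1 := fun r hr => by
  rw [ev_gF, hvalidK r hr, map_one]

include hF in
theorem hexpF (Γ : Type u) [Group Γ] [Finite Γ] (σ : Γ →* ↥(G (sig F 1)))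
    (hσ : Cfsg.IsStemExtension σ) : ∀ z ∈ σ.ker, z ^ 64 = 1 :=
  exp_dvd_64 (card_GF hF) (PhiF hF (ev gK w5)) (PhiF hF (ev gK w7)) (PhiF hF (gK 0))
    (by rw [show PhiF hF (ev gK w5) = (PhiF hF).toMonoidHom (ev gK w5) from rfl,
          orderOf_injective _ (PhiF hF).injective, orderOf_a5])
    (by rw [show PhiF hF (ev gK w7) = (PhiF hF).toMonoidHom (ev gK w7) from rfl,
          orderOf_injective _ (PhiF hF).injective, orderOf_a7])
    (by rw [show PhiF hF (gK 0) = (PhiF hF).toMonoidHom (gK 0) from rfl,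
          orderOf_injective _ (PhiF hF).injective, orderOf_a13])
    Γ σ hσ

/-! ### the explicit cover -/

/-- the generators of the cover inside `Perm (Fin 2080) × Sz(8)` -/
noncomputable def tau (i : ℕ) : Equiv.Perm (Fin Mod.X.N) × ↥(G (sig F 1)) := (gm i, gF hF i)

/-- the cover -/
noncomputable def Gam : Subgroup (Equiv.Perm (Fin Mod.X.N) × ↥(G (sig F 1))) :=
  Subgroup.closure {y | ∃ i < 2, y = tau hF i}

theorem tau_mem (i : ℕ) : tau hF i ∈ Gam hF := by
  by_cases hi : i < 2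
  · exact Subgroup.subset_closure ⟨i, hi, rfl⟩
  · have h1 : tau hF i = 1 := by
      unfold tau
      rw [gm_eq_one i (by omega), gF_eq_one hF i (by omega)]
      rfl
    rw [h1]
    exact (Gam hF).one_mem

/-- the generators as elements of the cover -/
noncomputable def tau' (i : ℕ) : Gam hF := ⟨tau hF i, tau_mem hF i⟩

theorem ev_tau' (w : Word) :
    ((ev (tau' hF) w : Gam hF) : Equiv.Perm (Fin Mod.X.N) × ↥(G (sig F 1))) =
      (ev gm w, ev (gF hF) w) := by
  have h1 := ev_map_hom (Gam hF).subtype (tau' hF) w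
  have h2 : (fun i => (Gam hF).subtype (tau' hF i)) = fun i => (gm i, gF hF i) := rfl
  rw [h2, ev_prod] at h1
  exact h1

theorem ev_tau'_eq_one (w : Word) (h1 : ev gm w = 1) (h2 : ev (gF hF) w = 1) :
    ev (tau' hF) w = 1 := by
  apply Subtype.ext
  rw [ev_tau', h1, h2]
  rfl

/-- the projection of the cover onto `Sz(8)` -/
noncomputable def sigF : Gam hF →* ↥(G (sig F 1)) := (MonoidHom.snd _ _).comp (Gam hF).subtype

theorem sig_tau' (i : ℕ) : sigF hF (tau' hF i) = gF hF i := rfl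

theorem gm_pow (i : ℕ) : gm i ^ ord i = 1 := by
  by_cases hi : i < 2
  · have := hmodW _ (pow_mem_allW i hi)
    rw [ev_powWord] at this
    unfold gm
    rwa [if_pos hi]
  · rw [gm_eq_one i (by omega), one_pow]

theorem tau'_pow (i : ℕ) : tau' hF i ^ ord i = 1 := by
  apply Subtype.ext
  show (gm i, gF hF i) ^ ord i = 1
  rw [Prod.pow_mk, gm_pow, gF_pow]
  rfl

theorem tau'_rel : ∀ r ∈ srelsAll, ev (tau' hF) r.word = 1 := fun r hr =>
  ev_tau'_eq_one hF _ (hvalidM r hr) (hvalidF hF r hr)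

theorem tau'_gen : Subgroup.closure {y | ∃ i < 2, y = tau' hF i} = ⊤ := by
  have h := Subgroup.closure_closure_coe_preimage (k := {y | ∃ i < 2, y = tau hF i})
  have e : {y : Gam hF | ∃ i < 2, y = tau' hF i} =
      ((↑) ⁻¹' {y | ∃ i < 2, y = tau hF i} : Set (Gam hF)) := by
    ext y
    constructor
    · rintro ⟨i, hi, rfl⟩
      exact ⟨i, hi, rfl⟩
    · rintro ⟨i, hi, h⟩
      exact ⟨i, hi, Subtype.ext h⟩
  rw [e]
  exact h

theorem self_mem : ∀ i < 2, ∃ r ∈ srelsAll, r.i = i ∧ r.j = i ∧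
    ¬ ((ord i : ℤ) ∣ (if r.neg then -(r.f : ℤ) else (r.f : ℤ)) - 1) := by decide

theorem ord_prime : ∀ i < 2, (ord i).Prime := by
  intro i _
  unfold ord
  norm_num

theorem tau'_perf : ∀ i < 2, tau' hF i ∈ commutator (Gam hF) := by
  intro i hi
  obtain ⟨r, hr, hri, hrj, hz⟩ := self_mem i hi
  have h := (ev_srel_eq_one_iff (tau' hF) r).mp (tau'_rel hF r hr)
  rw [hri, hrj] at h
  exact mem_commutator_of_conj (ev (tau' hF) r.W) (tau' hF i) (ord i) (ord_prime i hi)
    (tau'_pow hF i) _ h hz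

/-! ### the kernel of the cover -/

/-- the central involutions -/
noncomputable def zz1 : Gam hF := ev (tau' hF) zw1
noncomputable def zz2 : Gam hF := ev (tau' hF) zw2

theorem zz1_coe :
    ((zz1 hF : Gam hF) : Equiv.Perm (Fin Mod.X.N) × ↥(G (sig F 1))) = (gmX 2, 1) := by
  show ((ev (tau' hF) zw1 : Gam hF) : Equiv.Perm (Fin Mod.X.N) × ↥(G (sig F 1))) = _
  rw [ev_tau', ev_zw1, ev_gF, zw1_K, map_one]

theorem zz2_coe :
    ((zz2 hF : Gam hF) : Equiv.Perm (Fin Mod.X.N) × ↥(G (sig F 1))) = (gmX 3, 1) := by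
  show ((ev (tau' hF) zw2 : Gam hF) : Equiv.Perm (Fin Mod.X.N) × ↥(G (sig F 1))) = _
  rw [ev_tau', ev_zw2, ev_gF, zw2_K, map_one]

theorem gam_ext {x y : Gam hF}
    (h : (x : Equiv.Perm (Fin Mod.X.N) × ↥(G (sig F 1))) = y) : x = y := Subtype.ext h

theorem zz1_sq : zz1 hF * zz1 hF = 1 := by
  apply Subtype.ext
  rw [Subgroup.coe_mul, zz1_coe, Prod.mk_mul_mk, ← pow_two, gmX2_sq, mul_one]
  rfl

theorem zz2_sq : zz2 hF * zz2 hF = 1 := by
  apply Subtype.ext
  rw [Subgroup.coe_mul, zz2_coe, Prod.mk_mul_mk, ← pow_two, gmX3_sq, mul_one]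
  rfl

theorem zz1_ne : zz1 hF ≠ 1 := by
  intro h
  have h2 := congrArg (fun y : Gam hF => (y : Equiv.Perm (Fin Mod.X.N) × ↥(G (sig F 1))).1) h
  simp only [zz1_coe] at h2
  exact gmX2_ne h2

theorem zz2_ne : zz2 hF ≠ 1 := by
  intro h
  have h2 := congrArg (fun y : Gam hF => (y : Equiv.Perm (Fin Mod.X.N) × ↥(G (sig F 1))).1) h
  simp only [zz2_coe] at h2
  exact gmX3_ne h2

theorem zz12_ne : zz1 hF ≠ zz2 hF := by
  intro h
  have h2 := congrArg (fun y : Gam hF => (y : Equiv.Perm (Fin Mod.X.N) × ↥(G (sig F 1))).1) h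
  simp only [zz1_coe, zz2_coe] at h2
  apply gmX23_ne
  rw [h2, mul_inv_cancel]

theorem zz1_ker : sigF hF (zz1 hF) = 1 := by
  show ((zz1 hF : Gam hF) : Equiv.Perm (Fin Mod.X.N) × ↥(G (sig F 1))).2 = 1
  rw [zz1_coe]

theorem zz2_ker : sigF hF (zz2 hF) = 1 := by
  show ((zz2 hF : Gam hF) : Equiv.Perm (Fin Mod.X.N) × ↥(G (sig F 1))).2 = 1
  rw [zz2_coe]

theorem zz1_cen : ∀ i < 2, tau' hF i * zz1 hF = zz1 hF * tau' hF i := by
  intro i hi
  apply Subtype.ext
  rw [Subgroup.coe_mul, Subgroup.coe_mul, zz1_coe]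
  show (gm i, gF hF i) * (gmX 2, 1) = (gmX 2, 1) * (gm i, gF hF i)
  rw [Prod.mk_mul_mk, Prod.mk_mul_mk, gmX2_comm i hi, mul_one, one_mul]

theorem zz2_cen : ∀ i < 2, tau' hF i * zz2 hF = zz2 hF * tau' hF i := by
  intro i hi
  apply Subtype.ext
  rw [Subgroup.coe_mul, Subgroup.coe_mul, zz2_coe]
  show (gm i, gF hF i) * (gmX 3, 1) = (gmX 3, 1) * (gm i, gF hF i)
  rw [Prod.mk_mul_mk, Prod.mk_mul_mk, gmX3_comm i hi, mul_one, one_mul]

/-- an element commuting with the generators is central -/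
theorem mem_center_of_comm (z : Gam hF) (hz : ∀ i < 2, tau' hF i * z = z * tau' hF i) :
    z ∈ Subgroup.center (Gam hF) := by
  rw [Subgroup.mem_center_iff]
  intro x
  have hx : x ∈ Subgroup.closure {y | ∃ i < 2, y = tau' hF i} := by rw [tau'_gen]; trivial
  induction hx using Subgroup.closure_induction with
  | mem y hy =>
    obtain ⟨i, hi, rfl⟩ := hy
    exact hz i hi
  | one => rw [one_mul, mul_one]
  | mul a b _ _ ha hb => rw [mul_assoc, hb, ← mul_assoc, ha, mul_assoc]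
  | inv a _ ha =>
    have := congrArg (fun w => a⁻¹ * w * a⁻¹) ha
    simpa [mul_assoc] using this.symm

theorem sigF_surjective : Function.Surjective (sigF hF) := by
  have hmap : (⊤ : Subgroup (Gam hF)).map (sigF hF) = ⊤ := by
    rw [← tau'_gen hF, map_closure_eq (sigF hF) 2 (tau' hF) (gF hF) (sig_tau' hF), closure_gF]
  intro y
  have : y ∈ (⊤ : Subgroup (Gam hF)).map (sigF hF) := by rw [hmap]; trivial
  obtain ⟨x, -, rfl⟩ := this
  exact ⟨x, rfl⟩

theorem card_Gam_le : Nat.card (Gam hF) ≤ 4 * 29120 := by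
  have h := hbound (Gam hF) (tau' hF) (tau'_pow hF) (tau'_rel hF)
  rwa [tau'_gen, Subgroup.card_top] at h

theorem card_ker_le : Nat.card (sigF hF).ker ≤ 4 := by
  have h1 := Subgroup.card_mul_index (sigF hF).ker
  rw [Subgroup.index_ker, MonoidHom.range_eq_top.mpr (sigF_surjective hF), Subgroup.card_top,
    card_GF hF] at h1
  have h2 := card_Gam_le hF
  rw [← h1] at h2
  omega

/-- the four elements of the kernel -/
theorem ker_cases (x : Gam hF) (hx : x ∈ (sigF hF).ker) :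
    x = 1 ∨ x = zz1 hF ∨ x = zz2 hF ∨ x = zz1 hF * zz2 hF := by
  classical
  by_contra hcon
  push Not at hcon
  obtain ⟨h1, h2, h3, h4⟩ := hcon
  have hz2inv : (zz2 hF)⁻¹ = zz2 hF := inv_eq_of_mul_eq_one_right (zz2_sq hF)
  have hz1inv : (zz1 hF)⁻¹ = zz1 hF := inv_eq_of_mul_eq_one_right (zz1_sq hF)
  let S : Finset (Gam hF) := {x, 1, zz1 hF, zz2 hF, zz1 hF * zz2 hF}
  have hS : S.card = 5 := by
    have e1 : zz1 hF * zz2 hF ≠ zz2 hF := fun h => zz1_ne hF (mul_eq_right.mp h)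
    have e2 : zz1 hF * zz2 hF ≠ zz1 hF := fun h => zz2_ne hF (mul_eq_left.mp h)
    have e3 : zz1 hF * zz2 hF ≠ 1 := fun h => zz12_ne hF (by
      rw [← hz2inv]; exact eq_inv_of_mul_eq_one_left h)
    have e4 : (1 : Gam hF) ≠ zz1 hF := fun h => zz1_ne hF h.symm
    have e5 : (1 : Gam hF) ≠ zz2 hF := fun h => zz2_ne hF h.symm
    rw [Finset.card_insert_of_notMem, Finset.card_insert_of_notMem, Finset.card_insert_of_notMem,
      Finset.card_insert_of_notMem, Finset.card_singleton]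
    · simp only [Finset.mem_singleton]; exact e1.symm
    · simp only [Finset.mem_insert, Finset.mem_singleton, not_or]
      exact ⟨zz12_ne hF, e2.symm⟩
    · simp only [Finset.mem_insert, Finset.mem_singleton, not_or]
      exact ⟨e4, e5, e3.symm⟩
    · simp only [Finset.mem_insert, Finset.mem_singleton, not_or]
      exact ⟨h1, h2, h3, h4⟩
  have hsub : (S : Set (Gam hF)) ⊆ ((sigF hF).ker : Set (Gam hF)) := by
    intro y hy
    have hy' : y ∈ S := hy
    simp only [S, Finset.mem_insert, Finset.mem_singleton] at hy'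
    rcases hy' with rfl | rfl | rfl | rfl | rfl
    · exact hx
    · exact (sigF hF).ker.one_mem
    · exact zz1_ker hF
    · exact zz2_ker hF
    · exact (sigF hF).ker.mul_mem (zz1_ker hF) (zz2_ker hF)
  have h5 : 5 ≤ Nat.card (sigF hF).ker := by
    have := Set.ncard_le_ncard hsub (Set.toFinite _)
    rw [Set.ncard_coe_finset, hS] at this
    rwa [← Nat.card_coe_set_eq] at this
  have := card_ker_le hF
  omega

theorem card_ker_ge : 4 ≤ Nat.card (sigF hF).ker := by
  classical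
  have hz2inv : (zz2 hF)⁻¹ = zz2 hF := inv_eq_of_mul_eq_one_right (zz2_sq hF)
  let S : Finset (Gam hF) := {1, zz1 hF, zz2 hF, zz1 hF * zz2 hF}
  have hS : S.card = 4 := by
    have e1 : zz1 hF * zz2 hF ≠ zz2 hF := fun h => zz1_ne hF (mul_eq_right.mp h)
    have e2 : zz1 hF * zz2 hF ≠ zz1 hF := fun h => zz2_ne hF (mul_eq_left.mp h)
    have e3 : zz1 hF * zz2 hF ≠ 1 := fun h => zz12_ne hF (by
      rw [← hz2inv]; exact eq_inv_of_mul_eq_one_left h)
    have e4 : (1 : Gam hF) ≠ zz1 hF := fun h => zz1_ne hF h.symm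
    have e5 : (1 : Gam hF) ≠ zz2 hF := fun h => zz2_ne hF h.symm
    rw [Finset.card_insert_of_notMem, Finset.card_insert_of_notMem,
      Finset.card_insert_of_notMem, Finset.card_singleton]
    · simp only [Finset.mem_singleton]; exact e1.symm
    · simp only [Finset.mem_insert, Finset.mem_singleton, not_or]
      exact ⟨zz12_ne hF, e2.symm⟩
    · simp only [Finset.mem_insert, Finset.mem_singleton, not_or]
      exact ⟨e4, e5, e3.symm⟩
  have hsub : (S : Set (Gam hF)) ⊆ ((sigF hF).ker : Set (Gam hF)) := by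
    intro y hy
    have hy' : y ∈ S := hy
    simp only [S, Finset.mem_insert, Finset.mem_singleton] at hy'
    rcases hy' with rfl | rfl | rfl | rfl
    · exact (sigF hF).ker.one_mem
    · exact zz1_ker hF
    · exact zz2_ker hF
    · exact (sigF hF).ker.mul_mem (zz1_ker hF) (zz2_ker hF)
  have := Set.ncard_le_ncard hsub (Set.toFinite _)
  rw [Set.ncard_coe_finset, hS] at this
  rwa [← Nat.card_coe_set_eq] at this

theorem ker_le_center : (sigF hF).ker ≤ Subgroup.center (Gam hF) := by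
  intro x hx
  have c1 := mem_center_of_comm hF (zz1 hF) (zz1_cen hF)
  have c2 := mem_center_of_comm hF (zz2 hF) (zz2_cen hF)
  rcases ker_cases hF x hx with rfl | rfl | rfl | rfl
  · exact (Subgroup.center _).one_mem
  · exact c1
  · exact c2
  · exact (Subgroup.center _).mul_mem c1 c2

theorem ker_sq (x : (sigF hF).ker) : x * x = 1 := by
  have c1 := mem_center_of_comm hF (zz1 hF) (zz1_cen hF)
  have hcomm : zz2 hF * zz1 hF = zz1 hF * zz2 hF := (Subgroup.mem_center_iff.mp c1 (zz2 hF))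
  apply Subtype.ext
  show (x : Gam hF) * (x : Gam hF) = 1
  rcases ker_cases hF x.1 x.2 with h | h | h | h <;> rw [h]
  · exact one_mul 1
  · exact zz1_sq hF
  · exact zz2_sq hF
  · calc zz1 hF * zz2 hF * (zz1 hF * zz2 hF)
        = zz1 hF * (zz2 hF * zz1 hF) * zz2 hF := by group
      _ = zz1 hF * (zz1 hF * zz2 hF) * zz2 hF := by rw [hcomm]
      _ = (zz1 hF * zz1 hF) * (zz2 hF * zz2 hF) := by group
      _ = 1 := by rw [zz1_sq, zz2_sq, one_mul]

instance ker_klein : IsKleinFour (sigF hF).ker where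
  card_four := le_antisymm (card_ker_le hF) (card_ker_ge hF)
  exponent_two := by
    have hd : Monoid.exponent (sigF hF).ker ∣ 2 :=
      Monoid.exponent_dvd_of_forall_pow_eq_one (fun x => by rw [pow_two]; exact ker_sq hF x)
    rcases (Nat.dvd_prime Nat.prime_two).mp hd with h | h
    · exfalso
      have hsub : Subsingleton (sigF hF).ker := Monoid.exp_eq_one_iff.mp h
      have : (⟨zz1 hF, zz1_ker hF⟩ : (sigF hF).ker) = 1 := Subsingleton.elim _ _
      exact zz1_ne hF (congrArg Subtype.val this)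
    · exact h

include hF in
/-- **The Schur multiplier of helper6's `Sz(8)` is `Z/2 × Z/2`.** -/
theorem main_GF : Cfsg.HasSchurMultiplier ↥(G (sig F 1)) (Multiplicative (ZMod 2 × ZMod 2)) := by
  have e : (sigF hF).ker ≃* Multiplicative (ZMod 2 × ZMod 2) :=
    (IsKleinFour.nonempty_mulEquiv (G₁ := (sigF hF).ker)
      (G₂ := Multiplicative (ZMod 2 × ZMod 2))).some
  refine hasMult_of_model 64 4 (by norm_num) (hexpF hF) 2 (gF hF) ord (gF_pow hF) ord_coprime
    (closure_gF hF) srelsAll (hvalidF hF) ?_ (Gam hF) (sigF hF) (tau' hF) (sig_tau' hF)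
    (tau'_pow hF) (tau'_rel hF) (tau'_gen hF) (card_ker_ge hF) e (ker_le_center hF) (tau'_perf hF)
  intro L _ _ t ht hs
  rw [card_GF hF]
  exact hbound L t ht hs

end F

/-- **The Schur multiplier of `Sz(8)` is `Z/2 × Z/2`.** -/
theorem main {F : Type u} [Field F] [Fintype F] (hF : Fintype.card F = 8) :
    Cfsg.HasSchurMultiplier ↥(Cfsg.Lie.Sz F 4) (Multiplicative (ZMod 2 × ZMod 2)) :=
  hasSchurMultiplier_Sz_of_G hF (fun {_} => main_GF hF)

end Cfsg.Agent.Lib.Helper92.Sz8
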